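import Cfsg.Agent.H82.WA.SmallTopX
import Cfsg.Agent.S1174

/-!
# The spread step
-/

set_option autoImplicit false

namespace Cfsg.Agent.H82.WA

open Subgroup Cfsg.Agent H77.WA

universe u

/-- A spread is impossible. -/
theorem smallTopStep (htypes : TypeFacts.{u}) (hbar : BarStruct.{u}) (hconj : ConjFacts.{u})
    (hlink : LinkFacts.{u}) : SmallTopStep.{u} := by
  intro G _ _ S A hcfg hclean hst
  have h : ST S A := ST.of_smallTop ⟨hcfg, hclean, htypes, hbar, hconj, hlink⟩ hst
  obtain ⟨x, hxS, hx2, hxA, hxc⟩ := h.exists_x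
  have hx : Inv h x := ⟨hxS, hx2, hxA, hxc⟩
  refine H77.StrongThree.Data.contra (A := A) (x := x) (P := h.pF) ?_
  refine
    { simple := hcfg.simple
      gen := fun M hM => by_contra fun hne => hcfg.noSE ?_
      elem := hcfg.elem
      card := h.eight
      x_cent := hx.cent
      x_two := hx2
      x_not := hxA
      P_le := fun a ha ha1 => h.pF_le ha ha1
      core_le := fun a ha ha1 => (H88.Walter.core_le_pre a _).trans (h.pF_eq ha ha1).ge
      P_norm := fun a ha ha1 => by rw [h.pF_eq ha ha1]; exact h.le_normalizer_pre ha ha1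
      P_conj := fun n hn a ha ha1 g hg => h.pF_conj hn ha ha1 hg
      split := fun a ha ha1 => h.split ha ha1
      oddN := fun a ha ha1 N h1 h2 h3 => h.oddN ha ha1 h1 h2 h3
      inf_triv := fun a ha ha1 => h.inf_triv ha ha1
      x_mem := fun a ha ha1 => (h.mem_trivOn ha ha1).2 (hxc a ha ha1)
      frat := fun a ha ha1 => h.frat ha ha1
      crit := fun a ha ha1 b hb hba W h1 h2 h3 h4 => h.crit ha ha1 hb hba h1 h2 h3 h4
      coreX := fun b hb hb1 W h1 h2 h3 => hx.coreX hb hb1 h1 h2 h3
      exc := fun e he he1 g hg => hx.exc he he1 hg }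
  haveI := hcfg.simple
  exact S1174.result S A hcfg.ne_bot hcfg.closed fun htop => hne (le_antisymm le_top
    (htop ▸ iSup_le fun t => hM t.1 t.2.1 fun e1 => by
      have h2 := t.2.2
      rw [e1, orderOf_one] at h2
      omega))

end Cfsg.Agent.H82.WA
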