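import Cfsg.Agent.H82.WA.TopBasic
import Cfsg.Agent.H18.WA.Linear
import Cfsg.Agent.Fusion.Basic
import Cfsg.Agent.S2791

/-!
# The top step when `|A| ≤ |V|²`

The kernels of the top components meet trivially.  By the linear lemma either `|A| = 8` with an odd
automizer, or two kernels are interchanged, which gives `N(A)` a quotient of order two.
-/

set_option autoImplicit false
set_option linter.style.haveILetI false
set_option linter.unusedSectionVars false

namespace Cfsg.Agent.H82.WA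

open Subgroup Cfsg.Agent H77.WA
open Cfsg.Agent.H88.Walter (Bb vp qp)

universe u

variable {G : Type u} [Group G] [Finite G] {S : Sylow 2 G} {A : Subgroup G}

local instance fact_two_small : Fact (Nat.Prime 2) := ⟨Nat.prime_two⟩

/-- Conjugation of subgroups. -/
abbrev cjg (n : G) (X : Subgroup G) : Subgroup G := X.map (MulAut.conj n).toMonoidHom

theorem cjg_mul (m n : G) (X : Subgroup G) : cjg (m * n) X = cjg m (cjg n X) := by
  rw [cjg, cjg, cjg, map_map, map_mul]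
  rfl

theorem cjg_one (X : Subgroup G) : cjg 1 X = X := by
  rw [cjg, map_one]
  exact Subgroup.map_id X

namespace Hyp

variable (h : Hyp S A)
include h

theorem map_aut {n : G} (hn : n ∈ normalizer (A : Set G)) {X : Subgroup G} (hX : X ≤ A) :
    (X.subgroupOf A).map (A.normalizerMonoidHom ⟨n, hn⟩).toMonoidHom = (cjg n X).subgroupOf A := by
  ext y
  constructor
  · rintro ⟨x, hx, rfl⟩
    exact ⟨x, hx, rfl⟩
  · rintro ⟨x, hx, e⟩
    exact ⟨⟨x, hX hx⟩, hx, Subtype.ext e⟩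

/-- When the kernels are small, meeting kernels are equal. -/
theorem eq_of_meet {b c : G} {L : Subgroup (Bb b)} {L' : Subgroup (Bb c)} (ht : Top A b L)
    (ht' : Top A c L') (hsm : Nat.card A ≤ Nat.card ↥(vp A b L) ^ 2) {r : G}
    (hr : r ∈ qp A b L) (hr' : r ∈ qp A c L') (hr1 : r ≠ 1) :
    vp A c L' = vp A b L ∧ qp A c L' = qp A b L := by
  refine (h.meet ht ht' hr hr' hr1).resolve_right fun hc => hr1 ?_
  have hle : Nat.card ↥(qp A b L) ≤ Nat.card ↥(vp A b L) := by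
    rw [pow_two, ← h.card_mul ht.1 ht.2.1 ht.2.2.1] at hsm
    exact Nat.le_of_mul_le_mul_right hsm Nat.card_pos
  have e1 : vp A c L' = qp A b L :=
    eq_of_le_of_card_ge hc.1 (hle.trans (h.card_top ht ht').ge)
  have : r ∈ vp A c L' ⊓ qp A c L' := ⟨e1 ▸ hr, hr'⟩
  rwa [h.inf_eq ht'.1 ht'.2.1 ht'.2.2.1, mem_bot] at this

/-- `N(A)` has no quotient of order two through two interchanged subgroups. -/
theorem no_swap {R V : Subgroup G} (hne : R ≠ V)
    (hperm : ∀ n ∈ normalizer (A : Set G),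
      (cjg n R = R ∧ cjg n V = V) ∨ (cjg n R = V ∧ cjg n V = R))
    {n₀ : G} (hn₀ : n₀ ∈ normalizer (A : Set G)) (hn₀R : cjg n₀ R = V) : False := by
  classical
  set N := normalizer (A : Set G) with hN
  have hmul : ∀ m ∈ N, ∀ n ∈ N, (cjg (m * n) R = R ↔ (cjg m R = R ↔ cjg n R = R)) := by
    intro m hm n hn
    rw [cjg_mul]
    rcases hperm n hn with ⟨e1, -⟩ | ⟨e1, -⟩ <;> rcases hperm m hm with ⟨e3, e4⟩ | ⟨e3, e4⟩ <;>
      simp [e1, e3, e4, hne.symm]
  have hinv : ∀ m ∈ N, (cjg m⁻¹ R = R ↔ cjg m R = R) := fun m hm => by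
    have := hmul m hm m⁻¹ (inv_mem hm)
    rw [mul_inv_cancel, cjg_one] at this
    exact (this.1 rfl).symm
  -- the derived subgroup fixes `R`
  set K : Subgroup G :=
    { carrier := {n | n ∈ N ∧ cjg n R = R}
      one_mem' := ⟨one_mem _, cjg_one R⟩
      mul_mem' := fun {m n} hm hn => ⟨mul_mem hm.1 hn.1,
        (hmul m hm.1 n hn.1).2 (iff_of_true hm.2 hn.2)⟩
      inv_mem' := fun {m} hm => ⟨inv_mem hm.1, (hinv m hm.1).2 hm.2⟩ } with hK
  have hder : ⁅N, N⁆ ≤ K := commutator_le.2 fun x hx y hy => by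
    refine ⟨mul_mem (mul_mem (mul_mem hx hy) (inv_mem hx)) (inv_mem hy), ?_⟩
    rw [commutatorElement_def, hmul _ (mul_mem (mul_mem hx hy) (inv_mem hx)) _ (inv_mem hy),
      hmul _ (mul_mem hx hy) _ (inv_mem hx), hmul x hx y hy, hinv x hx, hinv y hy]
    tauto
  obtain ⟨T, hAT, hT⟩ := S2791.result S A h.cfg.elem.1 h.cfg.closed
  have hTN : (T : Subgroup G) ≤ N := fun t ht => H39.mem_normalizer_of_conj_mem fun a ha => by
    obtain ⟨x, hx, e⟩ := (hT {a} (Set.singleton_subset_iff.2 (hAT ha))).2 t (by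
      rintro _ ⟨a', ha', rfl⟩
      rw [Set.mem_singleton_iff.1 ha']
      exact mul_mem (mul_mem ht (hAT ha)) (inv_mem ht))
    rw [e a rfl]
    exact (mem_normalizer_iff.1 hx a).1 ha
  have hctl : Fusion.ControlsElementFusion N (T : Subgroup G) := by
    intro x hx g hg
    obtain ⟨k, hk, e⟩ := (hT {x} (Set.singleton_subset_iff.2 hx)).2 g (by
      rintro _ ⟨a', ha', rfl⟩
      rw [Set.mem_singleton_iff.1 ha']
      exact hg)
    exact ⟨k, hk, (e x rfl).symm⟩
  haveI := h.cfg.simple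
  have hperf : commutator G = ⊤ := by
    refine ((commutator G).normal_of_characteristic.eq_bot_or_eq_top).resolve_left fun e => ?_
    exact h.cfg.nonab ⟨⟨fun x y => commutatorElement_eq_one_iff_mul_comm.1
      (mem_bot.1 (e ▸ commutator_mem_commutator (mem_top x) (mem_top y)))⟩⟩
  have hTK : (T : Subgroup G) ≤ K := by
    have h0 := Fusion.commutator_inf_eq_of_controls T hTN hctl
    rw [hperf, top_inf_eq] at h0
    exact le_trans (le_trans h0.le inf_le_left) hder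
  -- a 2-element interchanging `R` and `V`
  obtain ⟨k, m, hm, hord⟩ := Nat.exists_eq_two_pow_mul_odd (n := orderOf n₀) (orderOf_pos n₀).ne'
  have hpow : ∀ j : ℕ, (cjg (n₀ ^ j) R = R ↔ Even j) := by
    intro j
    induction j with
    | zero => simp [cjg_one]
    | succ j ih =>
      rw [pow_succ, hmul _ (pow_mem hn₀ j) _ hn₀, ih, Nat.even_add_one]
      simp [hn₀R, hne.symm]
  set x := n₀ ^ m with hx
  have hxp : IsPGroup 2 ↥(zpowers x) := fun ⟨y, hy⟩ => ⟨k, Subtype.ext (by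
    obtain ⟨i, rfl⟩ := mem_zpowers_iff.1 hy
    show (x ^ i) ^ 2 ^ k = 1
    rw [← zpow_natCast, ← zpow_mul, mul_comm, zpow_mul, zpow_natCast, hx, ← pow_mul, mul_comm m,
      ← hord, pow_orderOf_eq_one, one_zpow])⟩
  obtain ⟨c, hc, hcT⟩ := H39.exists_conj_mem_le_sylow hxp (zpowers_le.2 (pow_mem hn₀ m)) T hTN
  have hfix := (hTK (hcT x (mem_zpowers x))).2
  rw [hmul _ (mul_mem hc (pow_mem hn₀ m)) _ (inv_mem hc), hmul _ hc _ (pow_mem hn₀ m), hinv c hc,
    hpow] at hfix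
  have := Nat.not_even_iff_odd.2 hm
  tauto

set_option maxHeartbeats 1600000 in
/-- The spread case: eight elements and an odd automizer. -/
theorem smallTop_of_small {b₀ : G} {L₀ : Subgroup (Bb b₀)} (ht₀ : Top A b₀ L₀)
    (hsm₀ : Nat.card A ≤ Nat.card ↥(vp A b₀ L₀) ^ 2) : SmallTop S A ∧ Nat.card A = 8 := by
  classical
  haveI := h.cfg.elem.1
  letI : CommGroup A := { (inferInstance : Group A) with mul_comm := IsMulCommutative.is_comm.comm }
  have hW : ∀ w : A, w * w = 1 := fun w => h.sq_sub w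
  have hsm : ∀ {b : G} {L : Subgroup (Bb b)}, Top A b L →
      Nat.card A ≤ Nat.card ↥(vp A b L) ^ 2 := fun {b L} ht => by
    rw [h.card_top ht₀ ht]; exact hsm₀
  let H : Subgroup (MulAut A) := A.normalizerMonoidHom.range
  let P : Set (Subgroup A × Subgroup A) :=
    {p | ∃ φ ∈ H, p = (((qp A b₀ L₀).subgroupOf A).map φ.toMonoidHom,
      ((vp A b₀ L₀).subgroupOf A).map φ.toMonoidHom)}
  have hP0 : ((qp A b₀ L₀).subgroupOf A, (vp A b₀ L₀).subgroupOf A) ∈ P :=
    ⟨1, one_mem _, Prod.ext (Subgroup.map_id _).symm (Subgroup.map_id _).symm⟩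
  have htop : ∀ p ∈ P, ∃ b L, Top A b L ∧
      p = ((qp A b L).subgroupOf A, (vp A b L).subgroupOf A) := by
    rintro _ ⟨φ, ⟨⟨n, hn⟩, rfl⟩, rfl⟩
    obtain ⟨L', ht', hV, hR⟩ := h.top_conj ht₀ hn
    refine ⟨_, L', ht', Prod.ext ?_ ?_⟩
    · rw [hR]; exact h.map_aut hn inf_le_left
    · rw [hV]; exact h.map_aut hn inf_le_left
  have hcard : ∀ {b : G} {L : Subgroup (Bb b)}, Top A b L →
      Nat.card ((qp A b L).subgroupOf A) = Nat.card ↥(qp A b₀ L₀) ∧
        Nat.card ((vp A b L).subgroupOf A) = Nat.card ↥(vp A b₀ L₀) := fun {b L} ht =>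
    ⟨(Nat.card_congr (subgroupOfEquivOfLe (show qp A b L ≤ A from inf_le_left)).toEquiv).trans
        (h.card_top_qp ht₀ ht),
      (Nat.card_congr (subgroupOfEquivOfLe (show vp A b L ≤ A from inf_le_left)).toEquiv).trans
        (h.card_top ht₀ ht)⟩
  have hinj : ∀ {X Y : Subgroup G}, X ≤ A → Y ≤ A → X.subgroupOf A = Y.subgroupOf A → X = Y :=
    fun {X Y} hX hY e => by
      rwa [subgroupOf_inj, inf_eq_left.2 hX, inf_eq_left.2 hY] at e
  have hPF : H18.WA.IsPairFamily H P :=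
    { inv := by
        rintro φ hφ _ ⟨ψ, hψ, rfl⟩
        exact ⟨φ * ψ, mul_mem hφ hψ, by simp only [Subgroup.map_map]; rfl⟩
      compl := fun p hp => by
        obtain ⟨b, L, ht, rfl⟩ := htop p hp
        exact h.isCompl ht.1 ht.2.1 ht.2.2.1
      ne_bot := fun p hp e => by
        obtain ⟨b, L, ht, rfl⟩ := htop p hp
        have hb : (⟨b, ht.1⟩ : A) ∈ (qp A b L).subgroupOf A := h.self_mem_qp ht.1 ht.2.1 ht.2.2.1
        simp only at e
        rw [e, mem_bot] at hb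
        exact ht.2.1 (congrArg Subtype.val hb)
      four := fun p hp => by
        obtain ⟨b, L, ht, rfl⟩ := htop p hp
        rw [(hcard ht).2]
        exact h.four_le ht₀.1 ht₀.2.1 ht₀.2.2.1
      ti := fun p hp p' hp' hne => by
        obtain ⟨b, L, ht, rfl⟩ := htop p hp
        obtain ⟨c, L', ht', rfl⟩ := htop p' hp'
        refine (eq_bot_iff_forall _).2 fun x hx => ?_
        by_contra hx1
        obtain ⟨e1, e2⟩ := h.eq_of_meet ht ht' (hsm ht) hx.1 hx.2 fun e => hx1 (Subtype.ext e)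
        exact hne (by rw [e1, e2])
      cyc := fun p hp => by
        obtain ⟨b, L, ht, rfl⟩ := htop p hp
        obtain ⟨n, hn, hq, hv, htr⟩ := h.exists_cyc ht.1 ht.2.1 ht.2.2.1
        refine ⟨A.normalizerMonoidHom ⟨n, hn⟩, ⟨_, rfl⟩, fun x hx => Subtype.ext (hq x hx),
          fun v hv' => hv v hv', fun v hv' hv1 w hw hw1 => ?_⟩
        obtain ⟨i, hi⟩ := htr v hv' w hw (fun e => hv1 (Subtype.ext e)) (fun e => hw1 (Subtype.ext e))
        refine ⟨i, ?_⟩
        rw [← map_pow]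
        exact Subtype.ext hi }
  have hirr : ∀ X : Subgroup A, (∀ φ ∈ H, ∀ x ∈ X, φ x ∈ X) → X = ⊥ ∨ X = ⊤ := by
    intro X hX
    rcases h.cfg.irred (X.map A.subtype) (map_subtype_le X) (fun n hn =>
      H39.mem_normalizer_of_conj_mem (by
        rintro _ ⟨x, hx, rfl⟩
        exact ⟨_, hX _ ⟨⟨n, hn⟩, rfl⟩ x hx, rfl⟩)) with e | e
    · exact Or.inl ((map_eq_bot_iff_of_injective _ A.subtype_injective).1 e)
    · refine Or.inr ((eq_top_iff' X).2 fun a => ?_)
      obtain ⟨y, hy, e'⟩ : (a : G) ∈ X.map A.subtype := by rw [e]; exact a.2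
      rwa [← show y = a from Subtype.ext e']
  rcases H18.WA.eight_or_swap hW hPF ⟨_, hP0⟩ hirr with ⟨h8, hodd⟩ | ⟨⟨Q, V⟩, hp, hp'⟩
  · -- an odd automizer on eight elements
    obtain ⟨hb, hb1, hL, -⟩ := id ht₀
    have hmul := h.card_mul hb hb1 hL
    have h4 := h.four_le hb hb1 hL
    have hR2 : 2 ≤ Nat.card ↥(qp A b₀ L₀) := by
      rw [← h.orderOf_eq hb hb1]
      exact Nat.le_of_dvd Nat.card_pos
        (Subgroup.orderOf_dvd_natCard _ (h.self_mem_qp hb hb1 hL))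
    have hV4 : Nat.card ↥(vp A b₀ L₀) = 4 := by
      have : 2 * Nat.card ↥(vp A b₀ L₀) ≤ 8 := h8 ▸ hmul ▸ Nat.mul_le_mul_right _ hR2
      omega
    have hRc : Nat.card ↥(qp A b₀ L₀) = 2 := by rw [hV4, h8] at hmul; omega
    set w₀ : A := ⟨b₀, hb⟩ with hw₀
    have hR : ∀ x : A, (x : G) ∈ qp A b₀ L₀ → x = 1 ∨ x = w₀ := by
      intro x hx
      have hz : zpowers b₀ = qp A b₀ L₀ := eq_of_le_of_card_ge
        (zpowers_le.2 (h.self_mem_qp hb hb1 hL)) (by rw [hRc, Nat.card_zpowers, h.orderOf_eq hb hb1])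
      rw [← hz] at hx
      obtain ⟨i, hi⟩ := mem_zpowers_iff.1 hx
      rw [← zpow_mod_orderOf, h.orderOf_eq hb hb1] at hi
      rcases Int.emod_two_eq_zero_or_one i with e | e
      · exact Or.inl (Subtype.ext (by simpa [e] using hi.symm))
      · exact Or.inr (Subtype.ext (by simpa [e, hw₀] using hi.symm))
    set O : Set A := {x | ∃ φ ∈ H, φ w₀ = x} with hO
    have hOodd : Odd O.ncard := by
      have e : O = MulAction.orbit H w₀ := by
        ext x
        exact ⟨fun ⟨φ, hφ, e⟩ => ⟨⟨φ, hφ⟩, e⟩, fun ⟨φ, e⟩ => ⟨φ, φ.2, e⟩⟩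
      rw [e, ← MulAction.index_stabilizer]
      exact hodd.of_dvd_nat (index_dvd_card _)
    have hw₀O : w₀ ∈ O := ⟨1, one_mem _, rfl⟩
    have hO1 : ∀ x ∈ O, x ≠ 1 := by
      rintro _ ⟨φ, -, rfl⟩ e
      exact hb1 (congrArg Subtype.val (φ.injective (e.trans (map_one φ).symm) : w₀ = 1))
    have hOinv : ∀ φ ∈ H, ∀ x ∈ O, φ x ∈ O := by
      rintro φ hφ _ ⟨ψ, hψ, rfl⟩
      exact ⟨φ * ψ, mul_mem hφ hψ, rfl⟩
    obtain ⟨τ, hτ, hfix, hVτ, htrans⟩ := hPF.cyc _ hP0
    have hbij := H18.WA.prod_bij (hPF.compl _ hP0)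
    -- the points over one element of the kernel
    have hline : ∀ r : A, r ∈ (qp A b₀ L₀).subgroupOf A →
        ∀ v ∈ (vp A b₀ L₀).subgroupOf A, v ≠ 1 → r * v ∈ O →
        ∀ v' ∈ (vp A b₀ L₀).subgroupOf A, v' ≠ 1 → r * v' ∈ O := by
      intro r hr v hv hv1 hrv v' hv' hv'1
      obtain ⟨i, hi⟩ := htrans v hv hv1 v' hv' hv'1
      have := hOinv _ (pow_mem hτ i) _ hrv
      rwa [map_mul, hi, H18.WA.pow_fix (hfix r hr)] at this
    have hall : ∀ x : A, x ≠ 1 → x ∈ O := by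
      -- a point outside the kernel
      obtain ⟨x, hxO, hxw⟩ : ∃ x ∈ O, x ≠ w₀ := by
        by_contra hc
        push Not at hc
        have hzero : zpowers w₀ = ⊥ ∨ zpowers w₀ = ⊤ := by
          refine hirr _ fun φ hφ y hy => ?_
          obtain ⟨i, rfl⟩ := mem_zpowers_iff.1 hy
          rw [map_zpow, hc _ (hOinv φ hφ w₀ hw₀O)]
          exact zpow_mem (mem_zpowers _) i
        rcases hzero with e | e
        · exact hO1 _ hw₀O (zpowers_eq_bot.1 e)
        · have := congrArg (fun X : Subgroup A => Nat.card X) e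
          simp only [Nat.card_zpowers, Subgroup.card_top, h8] at this
          rw [← Subgroup.orderOf_coe, hw₀, h.orderOf_eq hb hb1] at this
          omega
      obtain ⟨⟨⟨r, hr⟩, ⟨v, hv⟩⟩, rfl⟩ := hbij.2 x
      have hv1 : v ≠ 1 := fun e => by
        rcases hR r hr with rfl | rfl
        · exact hO1 _ hxO (by simp [e])
        · exact hxw (by simp [e])
      -- a point over the other element
      obtain ⟨y, hyO, hy⟩ : ∃ y ∈ O, y ∉ insert w₀
          ((fun v' => r * v') '' {v' : A | v' ∈ (vp A b₀ L₀).subgroupOf A ∧ v' ≠ 1}) := by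
        by_contra hc
        push Not at hc
        have e : O = insert w₀
            ((fun v' => r * v') '' {v' : A | v' ∈ (vp A b₀ L₀).subgroupOf A ∧ v' ≠ 1}) := by
          refine Set.Subset.antisymm hc (Set.insert_subset hw₀O ?_)
          rintro _ ⟨v', ⟨hv', hv'1⟩, rfl⟩
          exact hline r hr v hv hv1 hxO v' hv' hv'1
        have h3 : {v' : A | v' ∈ (vp A b₀ L₀).subgroupOf A ∧ v' ≠ 1}.ncard = 3 := by
          have : {v' : A | v' ∈ (vp A b₀ L₀).subgroupOf A ∧ v' ≠ 1} =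
              ((vp A b₀ L₀).subgroupOf A : Set A) \ {1} := by ext; simp
          rw [this, Set.ncard_sdiff_singleton_of_mem (one_mem _), ← Nat.card_coe_set_eq]
          show Nat.card ((vp A b₀ L₀).subgroupOf A) - 1 = 3
          rw [(hcard ht₀).2, hV4]
        have hnot : w₀ ∉ (fun v' => r * v') '' {v' : A | v' ∈ (vp A b₀ L₀).subgroupOf A ∧ v' ≠ 1} := by
          rintro ⟨v', ⟨hv', hv'1⟩, e'⟩
          have hmem : v' ∈ (qp A b₀ L₀).subgroupOf A := by
            rw [show v' = r⁻¹ * w₀ by rw [← e', inv_mul_cancel_left]]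
            exact mul_mem (inv_mem hr) (h.self_mem_qp hb hb1 hL)
          exact hv'1 (Subgroup.disjoint_def.1 (hPF.compl _ hP0).disjoint hmem hv')
        rw [e, Set.ncard_insert_of_notMem hnot (Set.toFinite _),
          Set.ncard_image_of_injective _ (mul_right_injective r), h3] at hOodd
        exact absurd hOodd (by decide)
      obtain ⟨⟨⟨r', hr'⟩, ⟨v', hv'⟩⟩, rfl⟩ := hbij.2 y
      have hv'1 : v' ≠ 1 := fun e => by
        rcases hR r' hr' with rfl | rfl
        · exact hO1 _ hyO (by simp [e])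
        · exact hy (Or.inl (by simp [e]))
      have hrr : r' ≠ r := fun e => hy (Or.inr ⟨v', ⟨hv', hv'1⟩, by subst e; rfl⟩)
      intro z hz
      obtain ⟨⟨⟨r'', hr''⟩, ⟨v'', hv''⟩⟩, rfl⟩ := hbij.2 z
      by_cases hv''1 : v'' = 1
      · rcases hR r'' hr'' with rfl | rfl
        · exact absurd (by simp [hv''1]) hz
        · simpa [hv''1] using hw₀O
      have hor : r'' = r ∨ r'' = r' := by
        rcases hR r'' hr'' with e1 | e1 <;> rcases hR r hr with e2 | e2 <;>
          rcases hR r' hr' with e3 | e3 <;>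
            first
              | exact Or.inl (e1.trans e2.symm)
              | exact Or.inr (e1.trans e3.symm)
              | exact absurd (e3.trans e2.symm) hrr
      rcases hor with e | e
      · subst e; exact hline r'' hr'' v hv hv1 hxO v'' hv'' hv''1
      · subst e; exact hline r'' hr'' v' hv' hv'1 hyO v'' hv'' hv''1
    refine ⟨⟨fun s hs => ?_, fun b L ht => hsm ht, fun a ha ha1 => ?_, fun a L L' ht ht' => ?_, ?_⟩, h8⟩
    · -- `S` centralises `A`
      obtain ⟨k, hk⟩ := S.isPGroup' ⟨s, hs⟩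
      have h1 : A.normalizerMonoidHom ⟨s, h.S_le_normalizer hs⟩ ^ 2 ^ k = 1 := by
        rw [← map_pow, show (⟨s, h.S_le_normalizer hs⟩ : normalizer (A : Set G)) ^ 2 ^ k = 1 from
          Subtype.ext (by simpa using congrArg Subtype.val hk), map_one]
      have h2 : A.normalizerMonoidHom ⟨s, h.S_le_normalizer hs⟩ = 1 :=
        orderOf_eq_one_iff.1 (Nat.eq_one_of_dvd_coprimes (Nat.Coprime.pow_left k
          (Nat.coprime_two_left.2 hodd)) (orderOf_dvd_of_pow_eq_one h1)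
          (Subgroup.orderOf_dvd_natCard _ ⟨_, rfl⟩))
      refine mem_centralizer_iff.2 fun a ha => ?_
      have h3 : s * a * s⁻¹ = a := congrArg (fun ψ : MulAut A => ((ψ ⟨a, ha⟩ : A) : G)) h2
      exact (mul_inv_eq_iff_eq_mul.1 h3).symm
    · obtain ⟨φ, ⟨⟨n, hn⟩, rfl⟩, e⟩ := hall ⟨a, ha⟩ fun e => ha1 (congrArg Subtype.val e)
      obtain rfl : a = n * b₀ * n⁻¹ := (congrArg Subtype.val e).symm
      obtain ⟨L', ht', -, -⟩ := h.top_conj ht₀ hn
      exact ⟨L', ht'⟩
    · by_contra hne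
      have hmem := h.self_mem_qp ht.1 ht.2.1 ht.2.2.1
      have hmem' := h.self_mem_qp ht'.1 ht'.2.1 ht'.2.2.1
      refine h.vp_ne_bot ht.1 ht.2.1 ht.2.2.1 ?_
      rw [← h.inf_eq ht.1 ht.2.1 ht.2.2.1, left_eq_inf]
      exact (h.eq_of_meet ht ht' (hsm ht) hmem hmem' ht.2.1).1.ge.trans
        (h.vp_le_qp ht.1 ht.2.1 ht.2.2.1 ht'.2.2.1 (Ne.symm hne))
    · intro b L ht a ha L' ht'
      exact h.eq_of_meet ht ht' (hsm ht) ha (h.self_mem_qp ht'.1 ht'.2.1 ht'.2.2.1) ht'.2.1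
  · -- two interchanged members
    exfalso
    obtain ⟨b, L, ht, e⟩ := htop _ hp
    obtain ⟨c, L', ht', e'⟩ := htop _ hp'
    simp only [Prod.mk.injEq] at e e'
    have hQV : Nat.card Q = Nat.card V := by
      rw [e.1, (hcard ht).1, ← (hcard ht').1, ← e'.1]
    have hc : IsCompl Q V := hPF.compl _ hp
    have hfour : 4 ≤ Nat.card Q := hQV.symm ▸ hPF.four _ hp
    have hsame : ∀ p ∈ P, Nat.card p.1 = Nat.card Q := by
      intro p hpP
      obtain ⟨b', M, htM, rfl⟩ := htop p hpP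
      rw [(hcard htM).1, e.1, (hcard ht).1]
    obtain ⟨g, hg⟩ := H18.WA.ind_dichotomy hW hPF hp hsame
    have hmemV : ∀ v ∈ V, v ≠ 1 → H18.WA.ind P v = 1 := fun v hv hv1 =>
      (H18.WA.ind_eq_one_iff hPF hv1).2 ⟨_, hp', hv⟩
    have hQne : Q ≠ V := fun e0 => hPF.ne_bot _ hp
      (disjoint_self.1 (show Disjoint Q Q by simpa [← e0] using hc.disjoint))
    have htr : ∀ p ∈ P, ∃ φ ∈ H, p = (Q.map φ.toMonoidHom, V.map φ.toMonoidHom) := by
      rintro _ ⟨ψ, hψ, rfl⟩
      obtain ⟨χ, hχ, e0⟩ := hp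
      simp only [Prod.mk.injEq] at e0
      refine ⟨ψ * χ⁻¹, mul_mem hψ (inv_mem hχ), ?_⟩
      have hcomp : (ψ * χ⁻¹).toMonoidHom.comp χ.toMonoidHom = ψ.toMonoidHom :=
        MonoidHom.ext fun x => congrArg ψ (χ.symm_apply_apply x)
      rw [e0.1, e0.2, Subgroup.map_map, Subgroup.map_map, hcomp]
    have htwo : ∀ p ∈ P, p = (Q, V) ∨ p = (V, Q) := by
      intro p hpP
      by_contra hcc
      push Not at hcc
      obtain ⟨x, hx, hx1⟩ := p.1.bot_or_exists_ne_one.resolve_left (hPF.ne_bot p hpP)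
      obtain ⟨⟨⟨r, hr⟩, ⟨v, hv⟩⟩, rfl⟩ := (H18.WA.prod_bij hc).2 x
      have hv1 : v ≠ 1 := fun e0 => hx1 (mem_bot.1 (hPF.ti p hpP _ hp hcc.1 ▸
        (⟨hx, by simpa [e0] using hr⟩ : r * v ∈ p.1 ⊓ Q)))
      have hr1 : r ≠ 1 := fun e0 => hx1 (mem_bot.1 (hPF.ti p hpP _ hp' hcc.2 ▸
        (⟨hx, by simpa [e0] using hv⟩ : r * v ∈ p.1 ⊓ V)))
      have h1 := (H18.WA.ind_eq_one_iff hPF hx1).2 ⟨p, hpP, hx⟩
      rw [show H18.WA.ind P (r * v) = _ from hg r hr v hv hv1, if_neg hr1, Nat.cast_one,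
        add_eq_right] at h1
      have hoddP : Odd (Nat.card P) := by
        have h2 := hg 1 Q.one_mem v hv hv1
        rw [one_mul, hmemV v hv hv1, if_pos rfl, h1, zero_add] at h2
        exact ZMod.natCast_eq_one_iff_odd.1 h2.symm
      have hcov : ∀ w : A, w ≠ 1 → ∃ q ∈ P, w ∈ q.1 := by
        intro w hw
        obtain ⟨⟨⟨r', hr'⟩, ⟨v', hv'⟩⟩, rfl⟩ := (H18.WA.prod_bij hc).2 w
        by_cases hv'1 : v' = 1
        · exact ⟨_, hp, by simpa [hv'1] using hr'⟩
        by_cases hr'1 : r' = 1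
        · exact ⟨_, hp', by simpa [hr'1] using hv'⟩
        rw [← H18.WA.ind_eq_one_iff hPF hw,
          show H18.WA.ind P (r' * v') = _ from hg r' hr' v' hv' hv'1, if_neg hr'1, h1, Nat.cast_one,
          zero_add]
      have h2 := (H18.WA.spread hW hPF hp htr hcov hoddP).1
      simp only at h2
      omega
    have hle : ∀ {n : G}, n ∈ normalizer (A : Set G) → ∀ {X : Subgroup G}, X ≤ A → cjg n X ≤ A :=
      fun {n} hn {X} hX => by
        rintro _ ⟨x, hx, rfl⟩
        exact (mem_normalizer_iff.1 hn x).1 (hX hx)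
    have hRA : qp A b L ≤ A := inf_le_left
    have hVA : vp A b L ≤ A := inf_le_left
    obtain ⟨_, ⟨⟨n₀, hn₀⟩, rfl⟩, hsw⟩ := htr _ hp'
    simp only [Prod.mk.injEq] at hsw
    have hsw1 := hsw.1
    rw [e.1, e.2, h.map_aut hn₀ hRA] at hsw1
    refine h.no_swap (R := qp A b L) (V := vp A b L) (fun e0 => hQne (by rw [e.1, e.2, e0]))
      (fun n hn => ?_) hn₀ (hinj hVA (hle hn₀ hRA) hsw1).symm
    have hmem := hPF.inv (A.normalizerMonoidHom ⟨n, hn⟩) ⟨_, rfl⟩ _ hp
    simp only [e.1, e.2, h.map_aut hn hRA, h.map_aut hn hVA] at hmem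
    rcases htwo _ hmem with e0 | e0 <;> simp only [Prod.mk.injEq, e.1, e.2] at e0
    · exact Or.inl ⟨hinj (hle hn hRA) hRA e0.1, hinj (hle hn hVA) hVA e0.2⟩
    · exact Or.inr ⟨hinj (hle hn hRA) hVA e0.1, hinj (hle hn hVA) hRA e0.2⟩

end Hyp

end Cfsg.Agent.H82.WA
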