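import Cfsg.Agent.H82.WA.TopMany
import Cfsg.Agent.H82.WA.TopSmall

/-!
# The top step
-/

set_option autoImplicit false

namespace Cfsg.Agent.H82.WA

open Cfsg.Agent H77.WA

universe u

/-- Either three or more blocks, or a spread of top kernels. -/
theorem topStep (htypes : TypeFacts.{u}) (_hsinger : SingerFacts.{u}) (hbar : BarStruct.{u})
    (hconj : ConjFacts.{u}) (hlink : LinkFacts.{u}) : TopStep.{u} := by
  intro G _ _ S A hcfg hclean hmet
  have h : Hyp S A := ⟨hcfg, hclean, htypes, hbar, hconj, hlink⟩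
  obtain ⟨b, L, ht⟩ := h.exists_top hmet
  rcases lt_or_ge (Nat.card ↥(H88.Walter.vp A b L) ^ 2) (Nat.card A) with hlt | hge
  · exact Or.inl (h.decomp_of_big ht hlt)
  · exact Or.inr (h.smallTop_of_small ht hge).1

end Cfsg.Agent.H82.WA
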