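import Cfsg.Agent.H88.Walter.Data
import Cfsg.Agent.H48.WA.Components
import Cfsg.Agent.H77.WA.Defs
import Cfsg.Agent.S0205

/-!
# A normal simple component acted on by odd subgroups

Pieces with the fixed-point property force an odd subgroup into the centraliser of the component.
-/

set_option autoImplicit false
set_option linter.unusedSectionVars false
set_option linter.style.haveILetI false

namespace Cfsg.Agent.H82.WA

open Subgroup Cfsg.Agent
open Cfsg.Agent.H88.Walter (FixTrivialAt Fixes)
open Cfsg.Agent.H21.Walter (OddTrivialAt)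

universe u

variable {X : Type u} [Group X] [Finite X]

/-- The central quotient of a subgroup with trivial centre. -/
noncomputable def quotEquiv {L : Subgroup X} (hZ : center ↥L = ⊥) : ↥L ≃* (↥L ⧸ center ↥L) :=
  MulEquiv.ofBijective (QuotientGroup.mk' (center ↥L))
    ⟨(MonoidHom.ker_eq_bot_iff _).1 (by rw [QuotientGroup.ker_mk', hZ]),
      QuotientGroup.mk'_surjective _⟩

theorem quotEquiv_apply {L : Subgroup X} (hZ : center ↥L = ⊥) (l : L) :
    quotEquiv hZ l = QuotientGroup.mk' (center ↥L) l :=
  rfl

variable {L : Subgroup X} [L.Normal] {K : Type u} [Group K] [Finite K] (e : ↥L ≃* K)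

/-- The action of the group on a model of the component. -/
noncomputable def actOn : X →* MulAut K :=
  (MulAut.congr e).toMonoidHom.comp MulAut.conjNormal

theorem actOn_apply (x : X) (l : L) :
    actOn e x (e l) = e ⟨x * l * x⁻¹, Normal.conj_mem inferInstance (l : X) l.2 x⟩ := by
  show e (MulAut.conjNormal x (e.symm (e l))) = _
  rw [e.symm_apply_apply]
  rfl

theorem actOn_coe (l : L) : actOn e (l : X) = MulAut.conj (e l) := by
  refine MulEquiv.ext fun k => ?_
  obtain ⟨m, rfl⟩ := e.surjective k
  rw [actOn_apply, MulAut.conj_apply, ← map_inv, ← map_mul, ← map_mul]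
  rfl

theorem actOn_eq_one_iff {x : X} : actOn e x = 1 ↔ x ∈ centralizer (L : Set X) := by
  constructor
  · intro h
    refine mem_centralizer_iff.2 fun l hl => ?_
    have h1 := DFunLike.congr_fun h (e ⟨l, hl⟩)
    rw [actOn_apply, MulAut.one_apply] at h1
    exact (mul_inv_eq_iff_eq_mul.1 (congrArg Subtype.val (e.injective h1))).symm
  · intro h
    refine MulEquiv.ext fun k => ?_
    obtain ⟨m, rfl⟩ := e.surjective k
    rw [actOn_apply, MulAut.one_apply]
    exact congrArg e (Subtype.ext (by
      show x * m * x⁻¹ = m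
      rw [← mem_centralizer_iff.1 h m m.2, mul_inv_cancel_right]))

theorem actOn_fix {x : X} {l : L} (h : x * l * x⁻¹ = l) : actOn e x (e l) = e l := by
  rw [actOn_apply]
  exact congrArg e (Subtype.ext h)

theorem odd_map {W : Subgroup X} (hW : Odd (Nat.card W)) : Odd (Nat.card (W.map (actOn e))) :=
  hW.of_dvd_nat (card_map_dvd _ _)

theorem conj_mem_normalizer {W : Subgroup X} {c : K}
    (h : ((e.symm c : L) : X) ∈ normalizer (W : Set X)) :
    MulAut.conj c ∈ normalizer (W.map (actOn e) : Set (MulAut K)) := by
  rw [← e.apply_symm_apply c, ← actOn_coe]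
  exact le_normalizer_map _ (mem_map_of_mem _ h)

/-- The fixed-point property at a point of a piece. -/
theorem le_centralizer_of_fix {P : Subgroup K} {x : K} (hP : FixTrivialAt P x) {W : Subgroup X}
    (hW : Odd (Nat.card W)) (hfix : ∀ w ∈ W, ∀ l : L, e l ∈ P → w * l * w⁻¹ = l)
    (hn : ∀ l : L, Commute (e l) x → (l : X) ∈ normalizer (W : Set X)) :
    W ≤ centralizer (L : Set X) := fun w hw =>
  (actOn_eq_one_iff e).1 <| mem_bot.1 <| by
    rw [← hP (W.map (actOn e)) (odd_map e hW) ?_ ?_]
    · exact mem_map_of_mem _ hw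
    · rintro _ ⟨w', hw', rfl⟩ k hk
      obtain ⟨l, rfl⟩ := e.surjective k
      exact actOn_fix e (hfix w' hw' l hk)
    · intro c hc
      exact conj_mem_normalizer e (hn _ (by
        rw [e.apply_symm_apply]
        exact mem_centralizer_singleton_iff.1 hc))

/-- The balanced property at a point. -/
theorem le_centralizer_of_oddTrivial {x : L} (hx : OddTrivialAt (e x)) {W : Subgroup X}
    (hW : Odd (Nat.card W)) (hfix : ∀ w ∈ W, w * x * w⁻¹ = x)
    (hn : ∀ l : L, Commute l x → (l : X) ∈ normalizer (W : Set X)) :
    W ≤ centralizer (L : Set X) := fun w hw =>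
  (actOn_eq_one_iff e).1 <| mem_bot.1 <| by
    rw [← hx (W.map (actOn e)) (odd_map e hW) ?_ ?_]
    · exact mem_map_of_mem _ hw
    · rintro _ ⟨w', hw', rfl⟩
      exact actOn_fix e (hfix w' hw')
    · intro c hc
      refine conj_mem_normalizer e (hn _ (e.injective ?_))
      rw [map_mul, map_mul, e.apply_symm_apply]
      exact mem_centralizer_singleton_iff.1 hc

/-- An odd subgroup of `C(L)` normalised by `C(L)` is trivial in a core-free group. -/
theorem eq_bot_of_centralizer (hO : Cfsg.oddCore X = ⊥) {W : Subgroup X} (hW : Odd (Nat.card W))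
    (hle : W ≤ centralizer (L : Set X))
    (hn : centralizer (L : Set X) ≤ normalizer (W : Set X)) : W = ⊥ := by
  haveI : (centralizer (L : Set X)).Normal := inferInstance
  have hsn : (centralizer (L : Set X)).IsSubnormal := Subgroup.Normal.isSubnormal inferInstance
  haveI : (W.subgroupOf (centralizer (L : Set X))).Normal := normal_subgroupOf_of_le_normalizer hn
  have h1 := Cores.le_oddCore (N := W.subgroupOf (centralizer (L : Set X)))
    (by rwa [Nat.card_congr (subgroupOfEquivOfLe hle).toEquiv])
  rw [H48.WA.oddCore_subnormal hO hsn, le_bot_iff, subgroupOf_eq_bot] at h1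
  exact h1.eq_bot_of_le hle

end Cfsg.Agent.H82.WA
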