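import Cfsg.Agent.H82.WA.TopSmall
import Cfsg.Agent.H82.WA.SmallTopAct
import Cfsg.Agent.H18.WA.Pieces
import Cfsg.Agent.H21.WA.Link

/-!
# The spread on eight elements: the component of each point
-/

set_option autoImplicit false
set_option linter.unusedSectionVars false
set_option linter.style.haveILetI false

namespace Cfsg.Agent.H82.WA

open Subgroup Cfsg.Agent H77.WA
open Cfsg.Agent.H88.Walter (Bb pre cen vp qp mem_pre core)
open Cfsg.Agent.H21.Walter (coreImage coreProj coreProj_eq_one_iff)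

universe u

variable {G : Type u} [Group G] [Finite G] {S : Sylow 2 G} {A : Subgroup G}

local instance fact_two_st : Fact (Nat.Prime 2) := ⟨Nat.prime_two⟩

/-- The spread case. -/
structure ST (S : Sylow 2 G) (A : Subgroup G) : Prop where
  hyp : Hyp S A
  top : SmallTop S A
  eight : Nat.card A = 8

theorem ST.of_smallTop (h : Hyp S A) (st : SmallTop S A) : ST S A := by
  obtain ⟨a, ha, ha1⟩ := A.bot_or_exists_ne_one.resolve_left h.cfg.ne_bot
  obtain ⟨L, hL⟩ := st.exists_top a ha ha1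
  exact ⟨h, st, (h.smallTop_of_small hL (st.small a L hL)).2⟩

namespace ST

variable (h : ST S A) {a : G} (ha : a ∈ A) (ha1 : a ≠ 1)
include h

theorem cent_S {x : G} (hx : x ∈ A) : (S : Subgroup G) ≤ centralizer ({x} : Set G) := fun s hs =>
  mem_centralizer_singleton_iff.2 (mem_centralizer_iff.1 (h.top.cent hs) x hx).symm

theorem eq_one_of_mem_core {b x : G} (hx : x ∈ (S : Subgroup G)) (hxc : x ∈ core b) : x = 1 := by
  obtain ⟨k, hk⟩ := S.isPGroup' ⟨x, hx⟩
  exact orderOf_eq_one_iff.1 (Nat.eq_one_of_dvd_coprimes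
    (Nat.Coprime.pow_left k (Nat.coprime_two_left.2 (H88.Walter.core_odd b)))
    (orderOf_dvd_of_pow_eq_one (by simpa using congrArg Subtype.val hk))
    (orderOf_dvd_natCard _ hxc))

theorem eq_of_proj {b s t : G} (hs : s ∈ (S : Subgroup G)) (ht : t ∈ (S : Subgroup G))
    {hsb : s ∈ centralizer ({b} : Set G)} {htb : t ∈ centralizer ({b} : Set G)}
    (e : coreProj b ⟨s, hsb⟩ = coreProj b ⟨t, htb⟩) : s = t := by
  refine inv_mul_eq_one.1 (h.eq_one_of_mem_core (b := b) (mul_mem (inv_mem hs) ht) ?_)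
  exact (coreProj_eq_one_iff (x := (⟨s, hsb⟩⁻¹ * ⟨t, htb⟩ : ↥(centralizer ({b} : Set G))))).1
    (by rw [map_mul, map_inv, e, inv_mul_cancel])

include ha ha1

/-- The component at a point. -/
noncomputable def comp : Subgroup (Bb a) :=
  Classical.choose (h.top.exists_top a ha ha1)

theorem comp_top : Top A a (h.comp ha ha1) :=
  Classical.choose_spec (h.top.exists_top a ha ha1)

theorem comp_met : CMet A a (h.comp ha ha1) := (h.comp_top ha ha1).2.2.1

theorem card_vp {L : Subgroup (Bb a)} (hL : CMet A a L) : Nat.card ↥(vp A a L) = 4 := by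
  have h1 := h.hyp.card_mul ha ha1 hL
  have h2 := h.hyp.four_le ha ha1 hL
  have h3 : 2 ≤ Nat.card ↥(qp A a L) := by
    rw [← h.hyp.orderOf_eq ha ha1]
    exact Nat.le_of_dvd Nat.card_pos
      (Subgroup.orderOf_dvd_natCard _ (h.hyp.self_mem_qp ha ha1 hL))
  have h4 := Nat.mul_le_mul_right (Nat.card ↥(vp A a L)) h3
  rw [h1, h.eight] at h4
  omega

theorem eq_comp {L : Subgroup (Bb a)} (hL : CMet A a L) : L = h.comp ha ha1 := by
  refine h.top.unique a L _ ⟨ha, ha1, hL, fun b hb hb1 L' hL' => ?_⟩ (h.comp_top ha ha1)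
  rw [h.card_vp ha ha1 hL, h.card_vp hb hb1 hL']

theorem qp_eq : qp A a (h.comp ha ha1) = zpowers a := by
  refine (eq_of_le_of_card_ge (zpowers_le.2 (h.hyp.self_mem_qp ha ha1 (h.comp_met ha ha1))) ?_).symm
  have h1 := h.hyp.card_mul ha ha1 (h.comp_met ha ha1)
  rw [h.card_vp ha ha1 (h.comp_met ha ha1), h.eight] at h1
  rw [Nat.card_zpowers, h.hyp.orderOf_eq ha ha1]
  omega

theorem mem_qp_iff {x : G} (hx : x ∈ qp A a (h.comp ha ha1)) : x = 1 ∨ x = a := by
  rw [h.qp_eq ha ha1] at hx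
  obtain ⟨i, hi⟩ := mem_zpowers_iff.1 hx
  rw [← zpow_mod_orderOf, h.hyp.orderOf_eq ha ha1] at hi
  rcases Int.emod_two_eq_zero_or_one i with e | e
  · exact Or.inl (by simpa [e] using hi.symm)
  · exact Or.inr (by simpa [e] using hi.symm)

theorem center_comp : center ↥(h.comp ha ha1) = ⊥ :=
  h.hyp.center_bot ha ha1 (h.comp_met ha ha1)

theorem comp_normal : (h.comp ha ha1).Normal := by
  refine ⟨fun y hy x => ?_⟩
  have := (h.hyp.struct ha ha1).met_conj _ (h.comp_met ha ha1) x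
  rw [← h.eq_comp ha ha1 this]
  exact ⟨y, hy, rfl⟩

theorem loc : H18.WA.Loc S A a (h.comp ha ha1) (S : Subgroup G) := by
  obtain ⟨R, hSR, hR⟩ := H18.WA.exists_loc h.hyp.cfg h.hyp.bar ha ha1 (h.comp_met ha ha1)
    S.isPGroup' (h.cent_S ha) h.hyp.le_S
  rwa [S.is_maximal' hR.two hSR] at hR

theorem le_normalizer_pre :
    centralizer ({a} : Set G) ≤ normalizer (pre a (h.comp ha ha1) : Set G) := fun g hg => by
  haveI := h.comp_normal ha ha1
  exact H21.WA.mem_normalizer_pre hg (by rw [normalizer_eq_top]; exact mem_top _)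

omit ha ha1
theorem exists_conj_comp (ha : a ∈ A) (ha1 : a ≠ 1) {n : G} (hn : n ∈ normalizer (A : Set G)) :
    ∃ (hb : n * a * n⁻¹ ∈ A) (hb1 : n * a * n⁻¹ ≠ 1),
      vp A _ (h.comp hb hb1) = (vp A a (h.comp ha ha1)).map (MulAut.conj n).toMonoidHom ∧
      pre _ (h.comp hb hb1) = (pre a (h.comp ha ha1)).map (MulAut.conj n).toMonoidHom ∧
      Nonempty (Quot (h.comp hb hb1) ≃* Quot (h.comp ha ha1)) := by
  obtain ⟨L', hL', hV, -, hpre, he⟩ := h.hyp.conj G A n hn a _ (h.comp_met ha ha1)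
  refine ⟨(mem_normalizer_iff.1 hn a).1 ha, fun e => ha1 (conj_eq_one_iff.1 e), ?_⟩
  obtain rfl := h.eq_comp ((mem_normalizer_iff.1 hn a).1 ha) (fun e => ha1 (conj_eq_one_iff.1 e)) hL'
  exact ⟨hV, hpre, he⟩

/-- A second plane. -/
theorem exists_other (ha : a ∈ A) (ha1 : a ≠ 1) :
    ∃ (b : G) (hb : b ∈ A) (hb1 : b ≠ 1), vp A b (h.comp hb hb1) ≠ vp A a (h.comp ha ha1) ∧
      Nonempty (Quot (h.comp hb hb1) ≃* Quot (h.comp ha ha1)) := by
  by_contra hc
  push Not at hc
  have hinv : normalizer (A : Set G) ≤ normalizer (vp A a (h.comp ha ha1) : Set G) := fun n hn => by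
    obtain ⟨hb, hb1, hV, -, he⟩ := h.exists_conj_comp ha ha1 hn
    refine H39.mem_normalizer_of_conj_mem fun x hx => ?_
    have e : vp A _ (h.comp hb hb1) = vp A a (h.comp ha ha1) := by
      by_contra hne
      exact not_isEmpty_of_nonempty _ (hc _ hb hb1 hne)
    rw [← e, hV]
    exact ⟨x, hx, rfl⟩
  rcases h.hyp.cfg.irred _ inf_le_left hinv with e | e
  · exact h.hyp.vp_ne_bot ha ha1 (h.comp_met ha ha1) e
  · have := h.card_vp ha ha1 (h.comp_met ha ha1)
    rw [show vp A a (h.comp ha ha1) = A from e, h.eight] at this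
    omega

end ST

end Cfsg.Agent.H82.WA
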