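import Cfsg.Agent.H82.WA.SmallTopType

/-!
# The spread on eight elements: the configuration of `H77.StrongThree`
-/

set_option autoImplicit false
set_option linter.unusedSectionVars false
set_option linter.style.haveILetI false

namespace Cfsg.Agent.H82.WA

open Subgroup Cfsg.Agent H77.WA
open Cfsg.Agent.H88.Walter (Bb pre cen vp qp mem_pre core)
open Cfsg.Agent.H21.Walter (coreImage coreProj coreProj_eq_one_iff)
open Cfsg.Agent.H10.Walter (AbSyl)
open Cfsg.Agent.Coprime (relCentralizer mem_relCentralizer)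
open Cfsg.Agent.H77.StrongThree (trivOn)
open scoped commutatorElement

universe u

variable {G : Type u} [Group G] [Finite G] {S : Sylow 2 G} {A : Subgroup G}

local instance fact_two_std : Fact (Nat.Prime 2) := ⟨Nat.prime_two⟩

namespace ST

variable (h : ST S A)
include h

open Classical in
/-- The preimage of the component of `a`. -/
noncomputable def pF (a : G) : Subgroup G :=
  if hh : a ∈ A ∧ a ≠ 1 then pre a (h.comp hh.1 hh.2) else ⊥

theorem pF_eq {a : G} (ha : a ∈ A) (ha1 : a ≠ 1) : h.pF a = pre a (h.comp ha ha1) :=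
  dif_pos ⟨ha, ha1⟩

theorem pF_le {a : G} (ha : a ∈ A) (ha1 : a ≠ 1) : h.pF a ≤ centralizer ({a} : Set G) :=
  (h.pF_eq ha ha1).trans_le (H88.Walter.pre_le _ _)

theorem pF_conj {n : G} (hn : n ∈ normalizer (A : Set G)) {a : G} (ha : a ∈ A) (ha1 : a ≠ 1) {g : G}
    (hg : g ∈ h.pF a) : n * g * n⁻¹ ∈ h.pF (n * a * n⁻¹) := by
  obtain ⟨hb, hb1, -, hpre, -⟩ := h.exists_conj_comp ha ha1 hn
  rw [h.pF_eq hb hb1, hpre]
  exact ⟨g, (h.pF_eq ha ha1) ▸ hg, rfl⟩

theorem mem_trivOn {a : G} (ha : a ∈ A) (ha1 : a ≠ 1) {g : G} :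
    g ∈ trivOn h.pF a ↔ g ∈ cen a (h.comp ha ha1) := by
  constructor
  · intro hg
    refine mem_pre.2 ⟨hg.2, mem_centralizer_iff.2 fun y hy => ?_⟩
    obtain ⟨⟨z, hz⟩, rfl⟩ := H88.Walter.coreProj_surjective a y
    have h1 := (mem_relCentralizer.1 hg.1).2 z
      (show z ∈ h.pF a by rw [h.pF_eq ha ha1]; exact mem_pre.2 ⟨hz, hy⟩)
    have h2 := (coreProj_eq_one_iff (x := ⁅(⟨g, hg.2⟩ : ↥(centralizer ({a} : Set G))), ⟨z, hz⟩⁆)).2 h1
    rw [map_commutatorElement, commutatorElement_eq_one_iff_mul_comm] at h2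
    exact h2.symm
  · intro hg
    obtain ⟨hga, hgc⟩ := mem_pre.1 hg
    refine ⟨mem_relCentralizer.2 ⟨H88.Walter.core_normal a hga, fun z hz => ?_⟩, hga⟩
    rw [h.pF_eq ha ha1] at hz
    obtain ⟨hza, hzL⟩ := mem_pre.1 hz
    refine (coreProj_eq_one_iff (x := ⁅(⟨g, hga⟩ : ↥(centralizer ({a} : Set G))), ⟨z, hza⟩⁆)).1 ?_
    rw [map_commutatorElement, commutatorElement_eq_one_iff_mul_comm]
    exact (mem_centralizer_iff.1 hgc _ hzL).symm

theorem frat {a : G} (ha : a ∈ A) (ha1 : a ≠ 1) :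
    centralizer ({a} : Set G) ≤
      h.pF a ⊔ (normalizer (A : Set G) ⊓ centralizer ({a} : Set G)) := by
  haveI := h.comp_normal ha ha1
  obtain ⟨T, hT, hTmem, -⟩ := h.piece ha ha1
  have hN : normalizer (((T : Subgroup ↥(h.comp ha ha1)).map (h.comp ha ha1).subtype : Subgroup (Bb a)) :
      Set (Bb a)) ≤ normalizer (coreImage a A : Set (Bb a)) := by
    intro y hy
    refine H39.mem_normalizer_of_conj_mem fun z hz => ?_
    obtain ⟨x, hxa, hx, rfl⟩ := H18.WA.mem_coreImage.1 hz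
    obtain ⟨v, hv, q, hq, rfl⟩ := (h.loc ha ha1).decomp hx
    have hva := h.hyp.le_cent ha hv.1
    have hqa := h.hyp.le_cent ha hq.1
    rw [show (⟨v * q, hxa⟩ : ↥(centralizer ({a} : Set G))) = ⟨v, hva⟩ * ⟨q, hqa⟩ from rfl, map_mul,
      show y * (coreProj a ⟨v, hva⟩ * coreProj a ⟨q, hqa⟩) * y⁻¹ =
        y * coreProj a ⟨v, hva⟩ * y⁻¹ * (y * coreProj a ⟨q, hqa⟩ * y⁻¹) by group]
    have hvT : coreProj a ⟨v, hva⟩ ∈ (T : Subgroup ↥(h.comp ha ha1)).map (h.comp ha ha1).subtype :=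
      ⟨_, (hTmem _).2 ⟨v, hv, rfl⟩, rfl⟩
    refine mul_mem ?_ ?_
    · obtain ⟨t, ht, e⟩ := (mem_normalizer_iff.1 hy _).1 hvT
      obtain ⟨w, hw, rfl⟩ := (hTmem t).1 ht
      rw [← e]
      exact H18.WA.mem_coreImage.2 ⟨w, _, hw.1, rfl⟩
    · have hcen : Commute y (coreProj a ⟨q, hqa⟩) := by
        obtain ⟨u, rfl⟩ := H88.Walter.coreProj_surjective a y
        refine Commute.map ?_ (coreProj a)
        rcases h.mem_qp_iff ha ha1 hq with rfl | rfl
        · exact Commute.one_right u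
        · exact Subtype.ext (mem_centralizer_singleton_iff.1 u.2)
      rw [hcen.eq, mul_inv_cancel_right]
      exact H18.WA.mem_coreImage.2 ⟨q, _, hq.1, rfl⟩
  intro g hg
  set M := h.pF a ⊔ (normalizer (A : Set G) ⊓ centralizer ({a} : Set G))
  have hMa : M ≤ centralizer ({a} : Set G) := sup_le (h.pF_le ha ha1) inf_le_right
  have hA'p : IsPGroup 2 ↥(A.subgroupOf (centralizer ({a} : Set G))) := h.hyp.isPGroup.comap_subtype
  have htop : ⊤ ≤ coreImage a M := by
    rw [← Sylow.normalizer_sup_eq_top T]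
    refine sup_le ?_ ?_
    · refine hN.trans ?_
      rw [coreImage, coreProj, ← Components.map_normalizer_of_coprime _
        Cores.coprime_card_pPrimeCore hA'p]
      rintro _ ⟨⟨n, hna⟩, hnN, rfl⟩
      refine mem_map_of_mem _ (show n ∈ M from mem_sup_right ⟨?_, hna⟩)
      exact H39.mem_normalizer_of_conj_mem fun x hx =>
        (mem_normalizer_iff.1 hnN ⟨x, h.hyp.le_cent ha hx⟩).1 hx
    · intro y hy
      obtain ⟨⟨z, hz⟩, rfl⟩ := H88.Walter.coreProj_surjective a y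
      exact H18.WA.mem_coreImage.2 ⟨z, hz, mem_sup_left
        (show z ∈ h.pF a by rw [h.pF_eq ha ha1]; exact mem_pre.2 ⟨hz, hy⟩), rfl⟩
  obtain ⟨m, hma, hm, e⟩ := H18.WA.mem_coreImage.1 (htop (mem_top (coreProj a ⟨g, hg⟩)))
  have hk : m⁻¹ * g ∈ core a :=
    (coreProj_eq_one_iff (x := (⟨m, hma⟩⁻¹ * ⟨g, hg⟩ : ↥(centralizer ({a} : Set G))))).1
      (by rw [map_mul, map_inv, e, inv_mul_cancel])
  have := mul_mem hm (mem_sup_left (T := normalizer (A : Set G) ⊓ centralizer ({a} : Set G))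
    (show m⁻¹ * g ∈ h.pF a by rw [h.pF_eq ha ha1]; exact H88.Walter.core_le_pre _ _ hk))
  rwa [mul_inv_cancel_left] at this

theorem oddN {a : G} (ha : a ∈ A) (ha1 : a ≠ 1) {N : Subgroup G} (hN : N ≤ h.pF a)
    (hodd : Odd (Nat.card N)) (hn : h.pF a ≤ normalizer (N : Set G)) : N ≤ core a := by
  have hNa : N ≤ centralizer ({a} : Set G) := hN.trans (h.pF_le ha ha1)
  rw [h.pF_eq ha ha1] at hN hn
  refine (H21.WA.coreImage_eq_bot_iff hNa).1 ?_
  have hle : coreImage a N ≤ h.comp ha ha1 := (H21.WA.coreImage_le_iff hNa).2 hN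
  have hLn : h.comp ha ha1 ≤ normalizer (coreImage a N : Set (Bb a)) := fun y hy => by
    obtain ⟨⟨z, hz⟩, rfl⟩ := H88.Walter.coreProj_surjective a y
    exact H21.WA.normalizer_coreImage hz (hn (mem_pre.2 ⟨hz, hy⟩))
  haveI : ((coreImage a N).subgroupOf (h.comp ha ha1)).Normal :=
    normal_subgroupOf_of_le_normalizer hLn
  have h1 := Cores.le_oddCore (N := (coreImage a N).subgroupOf (h.comp ha ha1)) (by
    rw [Nat.card_congr (subgroupOfEquivOfLe hle).toEquiv]
    exact hodd.of_dvd_nat ((card_map_dvd _ _).trans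
      (Nat.card_congr (subgroupOfEquivOfLe hNa).toEquiv).dvd))
  rw [(h.loc ha ha1).oddCore_L, le_bot_iff, subgroupOf_eq_bot] at h1
  exact h1.eq_bot_of_le hle

theorem inf_triv {a : G} (ha : a ∈ A) (ha1 : a ≠ 1) : h.pF a ⊓ trivOn h.pF a ≤ core a := by
  rintro g ⟨hgP, hgT⟩
  rw [SetLike.mem_coe, h.pF_eq ha ha1] at hgP
  have h1 := ((h.loc ha ha1).im_center_iff hgP).2 ((h.mem_trivOn ha ha1).1 hgT)
  rw [h.center_comp ha ha1, mem_bot] at h1
  exact coreProj_eq_one_iff.1 (congrArg Subtype.val h1)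

theorem split {a : G} (ha : a ∈ A) (ha1 : a ≠ 1) : A ≤ zpowers a ⊔ (A ⊓ h.pF a) := by
  refine le_of_eq_of_le (h.hyp.sup_eq ha ha1 (h.comp_met ha ha1)).symm (sup_le ?_ ?_)
  · rw [h.pF_eq ha ha1]; exact le_sup_right
  · exact (h.qp_eq ha ha1).le.trans le_sup_left

theorem crit {a : G} (ha : a ∈ A) (ha1 : a ≠ 1) {b : G} (hb : b ∈ A) (hba : b ∉ zpowers a)
    {W : Subgroup G} (hW : W ≤ centralizer ({a} : Set G)) (hodd : Odd (Nat.card W))
    (hn : centralizer ({a} : Set G) ⊓ centralizer ({b} : Set G) ≤ normalizer (W : Set G))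
    (hWA : ⁅W, A⁆ ≤ trivOn h.pF a) : W ≤ core a := by
  haveI := h.comp_normal ha ha1
  obtain ⟨T, hT, hTmem, hd⟩ := h.piece ha ha1
  have hZ := h.center_comp ha ha1
  set e := quotEquiv hZ with he
  obtain ⟨v, hv, q, hq, rfl⟩ := (h.loc ha ha1).decomp hb
  have hv1 : v ≠ 1 := fun e0 => hba (by rw [e0, one_mul, ← h.qp_eq ha ha1]; exact hq)
  set vb : ↥(h.comp ha ha1) := (h.loc ha ha1).im v hv.2 with hvb
  have hvb1 : e vb ≠ 1 := fun e0 => hv1 (h.hyp.proj_injOn (b := a) (hx := h.hyp.le_cent ha hv.1)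
    hv.1 (one_mem A) (hy := one_mem _) (by
      rw [show (⟨1, one_mem _⟩ : ↥(centralizer ({a} : Set G))) = 1 from rfl, map_one]
      exact congrArg Subtype.val (e.injective (e0.trans (map_one e).symm) : vb = 1)))
  have hva := h.hyp.le_cent ha hv.1
  have hqa := h.hyp.le_cent ha hq.1
  -- the centraliser of the image of `b`
  have hnorm : ∀ z : Bb a, Commute z (vb : Bb a) → z ∈ normalizer (coreImage a W : Set (Bb a)) := by
    intro z hz
    refine H21.Walter.centralizer_le_normalizer_coreImage (P := zpowers (v * q))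
      (h.hyp.isPGroup.to_le (zpowers_le.2 hb)) (fun g hg => hn ⟨hg.2,
        mem_centralizer_singleton_iff.2 (mem_centralizer_iff.1 hg.1 _ (mem_zpowers _)).symm⟩)
      (zpowers_le.2 (mul_mem hva hqa)) ?_
    have hzb : Commute z (coreProj a ⟨v * q, mul_mem hva hqa⟩) := by
      rw [show (⟨v * q, mul_mem hva hqa⟩ : ↥(centralizer ({a} : Set G))) = ⟨v, hva⟩ * ⟨q, hqa⟩ from rfl,
        map_mul]
      refine hz.mul_right ?_
      obtain ⟨u, rfl⟩ := H88.Walter.coreProj_surjective a z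
      refine Commute.map ?_ (coreProj a)
      rcases h.mem_qp_iff ha ha1 hq with rfl | rfl
      · exact Commute.one_right u
      · exact Subtype.ext (mem_centralizer_singleton_iff.1 u.2)
    refine mem_centralizer_iff.2 fun y hy => ?_
    obtain ⟨u, hua, hu, rfl⟩ := H18.WA.mem_coreImage.1 hy
    obtain ⟨i, rfl⟩ := mem_zpowers_iff.1 hu
    rw [show (⟨(v * q) ^ i, hua⟩ : ↥(centralizer ({a} : Set G))) = ⟨v * q, mul_mem hva hqa⟩ ^ i from
      Subtype.ext (by simp), map_zpow]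
    exact (hzb.zpow_right i).eq.symm
  have hle : coreImage a W ≤ centralizer (h.comp ha ha1 : Set (Bb a)) := by
    refine le_centralizer_of_fix e (hd.piece.fix (e vb)
      (mem_map_of_mem _ ((hTmem _).2 ⟨v, hv, rfl⟩)) hvb1) ?_ ?_ ?_
    · exact hodd.of_dvd_nat ((card_map_dvd _ _).trans
        (Nat.card_congr (subgroupOfEquivOfLe hW).toEquiv).dvd)
    · intro w hw l hl
      obtain ⟨l', hl', el⟩ := hl
      obtain rfl := e.injective el
      obtain ⟨u, hu, rfl⟩ := (hTmem l').1 hl'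
      obtain ⟨g, hga, hg, rfl⟩ := H18.WA.mem_coreImage.1 hw
      have hc := (mem_pre.1 ((h.mem_trivOn ha ha1).1 (hWA (commutator_mem_commutator hg hu.1))))
      obtain ⟨hca, hcc⟩ := hc
      have hua := h.hyp.le_cent ha hu.1
      have e1 : coreProj a ⟨⁅g, u⁆, hca⟩ = ⁅coreProj a ⟨g, hga⟩, coreProj a ⟨u, hua⟩⁆ := by
        rw [← map_commutatorElement]; rfl
      have hmem : coreProj a ⟨⁅g, u⁆, hca⟩ ∈ h.comp ha ha1 := by
        rw [e1, commutatorElement_def]
        exact Subgroup.mul_mem _ (Normal.conj_mem inferInstance _ (mem_pre.1 hu.2).2 _)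
          (Subgroup.inv_mem _ (mem_pre.1 hu.2).2)
      have hone : (⟨_, hmem⟩ : ↥(h.comp ha ha1)) ∈ center ↥(h.comp ha ha1) :=
        mem_center_iff.2 fun y => Subtype.ext (mem_centralizer_iff.1 hcc y y.2)
      rw [hZ, mem_bot] at hone
      have h2 := congrArg Subtype.val hone
      simp only [e1] at h2
      exact mul_inv_eq_one.1 h2
    · exact fun l hl => hnorm l (congrArg Subtype.val (e.injective (by
        rw [map_mul, map_mul]; exact hl.eq) : l * vb = vb * l))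
  refine (H21.WA.coreImage_eq_bot_iff hW).1 (eq_bot_of_centralizer (L := h.comp ha ha1)
    (H10.Walter.oddCore_bar _) ?_ hle fun z hz => hnorm z ?_)
  · exact hodd.of_dvd_nat ((card_map_dvd _ _).trans
      (Nat.card_congr (subgroupOfEquivOfLe hW).toEquiv).dvd)
  · exact (mem_centralizer_iff.1 hz _ vb.2).symm

end ST

end Cfsg.Agent.H82.WA
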