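import Cfsg.Agent.H82.WA.SmallTopBasic
import Cfsg.Agent.H77.StrongThree.Core
import Cfsg.Agent.H18.WA.Twist

/-!
# The spread on eight elements: the components are of abelian type and share a centralised involution

Two components of non-abelian type would have Sylow pieces meeting inside both planes, so that the
automorphisms of the first induced by the second commute, which puts the second plane in a kernel.
-/

set_option autoImplicit false
set_option linter.unusedSectionVars false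
set_option linter.style.haveILetI false

namespace Cfsg.Agent.H82.WA

open Subgroup Cfsg.Agent H77.WA
open Cfsg.Agent.H88.Walter (Bb pre cen vp qp mem_pre core)
open Cfsg.Agent.H21.Walter (coreImage coreProj coreProj_eq_one_iff)
open Cfsg.Agent.H10.Walter (AbSyl)
open scoped commutatorElement

universe u

variable {G : Type u} [Group G] [Finite G] {S : Sylow 2 G} {A : Subgroup G}

local instance fact_two_stt : Fact (Nat.Prime 2) := ⟨Nat.prime_two⟩

namespace ST

variable (h : ST S A)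
include h

/-- Every component is of abelian type. -/
theorem absyl {a : G} (ha : a ∈ A) (ha1 : a ≠ 1) : AbSyl (Quot (h.comp ha ha1)) := by
  by_contra hab
  obtain ⟨b, hb, hb1, hne, ⟨ei⟩⟩ := h.exists_other ha ha1
  have hba : ¬ AbSyl (Quot (h.comp hb hb1)) := H18.WA.not_absyl_of_equiv ei hab
  obtain ⟨T, V, hn⟩ := H18.WA.exists_nloc h.hyp.types (h.loc ha ha1) hab
  obtain ⟨T', V', hn'⟩ := H18.WA.exists_nloc h.hyp.types (h.loc hb hb1) hba
  haveI := h.comp_normal ha ha1
  have hZ := h.center_comp ha ha1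
  set e := quotEquiv hZ with he
  set Sb := (S : Subgroup G) ⊓ pre b (h.comp hb hb1) with hSb
  set D := (S : Subgroup G) ⊓ pre a (h.comp ha ha1) ⊓ Sb with hD
  set Db := ((coreImage a D).subgroupOf (h.comp ha ha1)).map
    (QuotientGroup.mk' (center ↥(h.comp ha ha1))) with hDb
  have hSn : ∀ {x : G} (hx : x ∈ A) (hx1 : x ≠ 1),
      (S : Subgroup G) ≤ normalizer ((((S : Subgroup G) ⊓ pre x (h.comp hx hx1)) : Subgroup G) : Set G) :=
    fun {x} hx hx1 => H77.StrongThree.le_normalizer_inf le_normalizer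
      ((h.cent_S hx).trans (h.le_normalizer_pre hx hx1))
  have hDn : (S : Subgroup G) ≤ normalizer (D : Set G) :=
    H77.StrongThree.le_normalizer_inf (hSn ha ha1) (hSn hb hb1)
  have hTimg : ∀ t ∈ (T : Subgroup ↥(h.comp ha ha1)), (t : Bb a) ∈ coreImage a (S : Subgroup G) :=
    fun t ht => by rw [hn.T_eq] at ht; exact ht
  have hDT : Db ≤ (T : Subgroup ↥(h.comp ha ha1)).map (QuotientGroup.mk' _) := by
    refine map_mono fun y hy => ?_
    rw [hn.T_eq]
    exact H21.WA.coreImage_mono' (inf_le_left.trans inf_le_left) hy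
  have hDTn : (T : Subgroup ↥(h.comp ha ha1)).map (QuotientGroup.mk' _) ≤
      normalizer (Db : Set (Quot (h.comp ha ha1))) := by
    rintro _ ⟨t, ht, rfl⟩
    refine le_normalizer_map _ (mem_map_of_mem _ (mem_normalizer_iff.2 fun y => ?_))
    exact mem_normalizer_iff.1 (H21.WA.coreImage_le_normalizer hDn (hTimg t ht)) y
  -- lifts
  have hlift : ∀ d ∈ D, ∀ v (hv : v ∈ vp A a (h.comp ha ha1)) (hd : d ∈ pre a (h.comp ha ha1)),
      QuotientGroup.mk' _ ((h.loc ha ha1).im d hd) = QuotientGroup.mk' _ ((h.loc ha ha1).im v hv.2) →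
      d = v := fun d hd v hv hdp e' =>
    h.eq_of_proj (b := a) hd.1.1 (h.hyp.le_S hv.1) (congrArg Subtype.val (e.injective e'))
  rcases hn.data.normal_sub Db hDT hDTn with hle | hge
  swap
  · -- the plane of `a` lies in `pre b`
    refine hne (eq_of_le_of_card_ge (fun v hv => ?_) ?_).symm
    · obtain ⟨y, hy, ey⟩ := hge (hn.V_mem.2 ⟨v, hv, rfl⟩)
      obtain ⟨d, hda, hd, e1⟩ := H18.WA.mem_coreImage.1 hy
      have e2 : (h.loc ha ha1).im d hd.1.2 = y := Subtype.ext e1
      exact ⟨hv.1, (hlift d hd v hv hd.1.2 (e2.symm ▸ ey)) ▸ hd.2.2⟩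
    · rw [h.card_vp ha ha1 (h.comp_met ha ha1), h.card_vp hb hb1 (h.comp_met hb hb1)]
  have hDA : ∀ d ∈ D, d ∈ vp A a (h.comp ha ha1) ⊓ vp A b (h.comp hb hb1) := by
    intro d hd
    obtain ⟨v, hv, ev⟩ := hn.V_mem.1 (hle (mem_map_of_mem _ (show
      (h.loc ha ha1).im d hd.1.2 ∈ (coreImage a D).subgroupOf _ from
        H18.WA.mem_coreImage.2 ⟨d, _, hd, rfl⟩)))
    obtain rfl := hlift d hd v hv hd.1.2 ev.symm
    exact ⟨hv, hv.1, hd.2.2⟩
  have hproper : Db ≠ V := fun e0 => by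
    refine hne (eq_of_le_of_card_ge (fun v hv => ?_) ?_).symm
    · obtain ⟨y, hy, ey⟩ := e0.ge (hn.V_mem.2 ⟨v, hv, rfl⟩)
      obtain ⟨d, hda, hd, e1⟩ := H18.WA.mem_coreImage.1 hy
      have e2 : (h.loc ha ha1).im d hd.1.2 = y := Subtype.ext e1
      exact (hlift d hd v hv hd.1.2 (e2.symm ▸ ey)) ▸ (hDA d hd).2
    · rw [h.card_vp ha ha1 (h.comp_met ha ha1), h.card_vp hb hb1 (h.comp_met hb hb1)]
  -- the automorphisms induced by the Sylow piece of `b`
  set f : ↥(centralizer ({a} : Set G)) →* MulAut (Quot (h.comp ha ha1)) :=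
    (actOn e).comp (coreProj a) with hf
  set P := (Sb.subgroupOf (centralizer ({a} : Set G))).map f with hP
  have hPab : IsMulCommutative ↥P := by
    refine hn.data.small_comm P Db ((S.isPGroup'.to_le inf_le_left).comap_subtype.map _) hle hproper
      ?_ ?_
    · rintro _ ⟨s, hs, rfl⟩ w hw
      obtain ⟨v, hv, rfl⟩ := hn.V_mem.1 hw
      refine actOn_fix e ?_
      show coreProj a s * coreProj a ⟨v, _⟩ * (coreProj a s)⁻¹ = coreProj a ⟨v, _⟩
      rw [← map_inv, ← map_mul, ← map_mul]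
      exact congrArg _ (Subtype.ext (show (s : G) * v * (s : G)⁻¹ = v by
        rw [← show v * (s : G) = (s : G) * v from mem_centralizer_iff.1 (h.top.cent hs.1) v hv.1,
          mul_inv_cancel_right]))
    · rintro _ ⟨s, hs, rfl⟩ w ⟨t, ht, rfl⟩
      obtain ⟨t', ht', rfl⟩ := (h.loc ha ha1).exists_lift hn.T_eq ht
      set d := (s : G) * t' * (s : G)⁻¹ * t'⁻¹ with hd
      have hdD : d ∈ D := by
        have h1 : (s : G) * t' * (s : G)⁻¹ ∈ (S : Subgroup G) ⊓ pre a (h.comp ha ha1) :=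
          (mem_normalizer_iff.1 (hSn ha ha1 hs.1) t').1 ht'
        have h2 : t' * (s : G)⁻¹ * t'⁻¹ ∈ Sb :=
          (mem_normalizer_iff.1 (hSn hb hb1 ht'.1) _).1 (inv_mem hs)
        exact ⟨Subgroup.mul_mem _ h1 (Subgroup.inv_mem _ ht'), by
          rw [hd, mul_assoc, mul_assoc, ← mul_assoc t']
          exact Subgroup.mul_mem _ hs h2⟩
      refine ⟨(h.loc ha ha1).im d hdD.1.2, H18.WA.mem_coreImage.2 ⟨d, _, hdD, rfl⟩, ?_⟩
      show e _ = actOn e (coreProj a s) (e _) * (e _)⁻¹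
      rw [actOn_apply, eq_mul_inv_iff_mul_eq, ← map_mul]
      refine congrArg e (Subtype.ext ?_)
      show coreProj a ⟨d, _⟩ * coreProj a ⟨t', _⟩ = coreProj a s * coreProj a ⟨t', _⟩ * (coreProj a s)⁻¹
      rw [← map_inv, ← map_mul, ← map_mul, ← map_mul]
      exact congrArg _ (Subtype.ext (inv_mul_cancel_right _ t'))
  -- hence the plane of `b` is in the kernel of `a`
  have hcomm : ⁅Sb, Sb⁆ ≤ cen a (h.comp ha ha1) := commutator_le.2 fun s hs t ht => by
    have hsa := h.cent_S ha hs.1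
    have hta := h.cent_S ha ht.1
    refine mem_pre.2 ⟨mul_mem (mul_mem (mul_mem hsa hta) (inv_mem hsa)) (inv_mem hta),
      (actOn_eq_one_iff e).1 ?_⟩
    show f (⁅(⟨s, hsa⟩ : ↥(centralizer ({a} : Set G))), ⟨t, hta⟩⁆) = 1
    rw [map_commutatorElement, commutatorElement_eq_one_iff_mul_comm]
    exact congrArg Subtype.val (hPab.is_comm.comm
      (⟨_, mem_map_of_mem f (show (⟨s, hsa⟩ : ↥(centralizer ({a} : Set G))) ∈ Sb.subgroupOf _ from hs)⟩ : P)
      ⟨_, mem_map_of_mem f (show (⟨t, hta⟩ : ↥(centralizer ({a} : Set G))) ∈ Sb.subgroupOf _ from ht)⟩)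
  have hle' : vp A b (h.comp hb hb1) ≤ qp A a (h.comp ha ha1) := by
    intro v hv
    have h1 := hn'.V_mem.2 ⟨v, hv, rfl⟩
    replace h1 := hn'.data.comm.ge h1
    rw [← Subgroup.map_commutator] at h1
    obtain ⟨y, hy, ey⟩ := h1
    obtain rfl := (quotEquiv (h.center_comp hb hb1)).injective ey
    have hTb : (T' : Subgroup ↥(h.comp hb hb1)).map (h.comp hb hb1).subtype ≤ coreImage b Sb := by
      rintro _ ⟨t, ht, rfl⟩
      obtain ⟨t', ht', rfl⟩ := (h.loc hb hb1).exists_lift hn'.T_eq ht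
      exact H18.WA.mem_coreImage.2 ⟨t', _, ht', rfl⟩
    have h2 := mem_map_of_mem (h.comp hb hb1).subtype hy
    rw [Subgroup.map_commutator] at h2
    have hSbb : Sb ≤ centralizer ({b} : Set G) := inf_le_left.trans (h.cent_S hb)
    have h3 := commutator_mono hTb hTb h2
    rw [← H21.WA.coreImage_commutator hSbb hSbb] at h3
    obtain ⟨c, hcb, hc, e1⟩ := H18.WA.mem_coreImage.1 h3
    have : c = v := h.eq_of_proj (b := b)
      ((show ⁅Sb, Sb⁆ ≤ (S : Subgroup G) from
        (commutator_mono inf_le_left inf_le_left).trans (commutator_le_self _)) hc)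
      (h.hyp.le_S hv.1) e1
    exact ⟨hv.1, hcomm (this ▸ hc)⟩
  have h1 := card_le_of_le hle'
  rw [h.card_vp hb hb1 (h.comp_met hb hb1), h.qp_eq ha ha1, Nat.card_zpowers,
    h.hyp.orderOf_eq ha ha1] at h1
  omega

theorem atype {a : G} (ha : a ∈ A) (ha1 : a ≠ 1) : AType (Quot (h.comp ha ha1)) :=
  ((h.hyp.struct ha ha1).type _ (h.comp_met ha ha1)).resolve_right fun hN => hN.2.2.2 (h.absyl ha ha1)

/-- The Sylow piece of a component is the plane, and the facts about it. -/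
theorem piece {a : G} (ha : a ∈ A) (ha1 : a ≠ 1) :
    ∃ T : Sylow 2 ↥(h.comp ha ha1),
      (T : Subgroup ↥(h.comp ha ha1)) = (coreImage a (S : Subgroup G)).subgroupOf (h.comp ha ha1) ∧
      (∀ t, t ∈ (T : Subgroup ↥(h.comp ha ha1)) ↔
        ∃ v, ∃ hv : v ∈ vp A a (h.comp ha ha1), (h.loc ha ha1).im v hv.2 = t) ∧
      AData ((T : Subgroup ↥(h.comp ha ha1)).map (quotEquiv (h.center_comp ha ha1)).toMonoidHom) := by
  obtain ⟨T, hT⟩ := (h.loc ha ha1).syl
  have hd := h.hyp.types.ab _ (h.atype ha ha1)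
    (T.mapSurjective (f := (quotEquiv (h.center_comp ha ha1)).toMonoidHom)
      (quotEquiv (h.center_comp ha ha1)).surjective)
  replace hd : AData ((T : Subgroup ↥(h.comp ha ha1)).map
      (quotEquiv (h.center_comp ha ha1)).toMonoidHom) := hd
  refine ⟨T, hT, fun t => ⟨fun ht => ?_, ?_⟩, hd⟩
  · have hle : (coreImage a A).subgroupOf (h.comp ha ha1) ≤ (T : Subgroup ↥(h.comp ha ha1)) :=
      hT.symm ▸ comap_mono (H21.WA.coreImage_mono' h.hyp.le_S)
    have h2 : t * t = 1 := (quotEquiv (h.center_comp ha ha1)).injective (by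
      rw [map_mul, map_one]
      exact hd.piece.sq _ (mem_map_of_mem _ ht))
    have h3 := ((h.hyp.struct ha ha1).image _ (h.comp_met ha ha1) T hle t ht).1
      (by rw [h2]; exact one_mem _)
    rw [h.center_comp ha ha1, sup_bot_eq] at h3
    exact (h.loc ha ha1).mem_A_L.1 h3
  · rintro ⟨v, hv, rfl⟩
    exact (h.loc ha ha1).im_mem hT ⟨h.hyp.le_S hv.1, hv.2⟩

/-- The derived group of `S` centralises every component. -/
theorem derived_le_cen {a : G} (ha : a ∈ A) (ha1 : a ≠ 1) :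
    ⁅(S : Subgroup G), (S : Subgroup G)⁆ ≤ cen a (h.comp ha ha1) := by
  haveI := h.comp_normal ha ha1
  obtain ⟨T, hT, hTmem, hd⟩ := h.piece ha ha1
  set e := quotEquiv (h.center_comp ha ha1) with he
  set f : ↥(centralizer ({a} : Set G)) →* MulAut (Quot (h.comp ha ha1)) :=
    (actOn e).comp (coreProj a) with hf
  have hinner : ∀ s (hs : s ∈ (S : Subgroup G)), ∃ t ∈ (T : Subgroup ↥(h.comp ha ha1)).map e.toMonoidHom,
      f ⟨s, h.cent_S ha hs⟩ = MulAut.conj t := by
    intro s hs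
    refine hd.inner _ ?_ ?_
    · obtain ⟨k, hk⟩ := S.isPGroup' ⟨s, hs⟩
      exact ⟨k, by rw [← map_pow, show (⟨s, h.cent_S ha hs⟩ : ↥(centralizer ({a} : Set G))) ^ 2 ^ k = 1
        from Subtype.ext (by simpa using congrArg Subtype.val hk), map_one]⟩
    · rintro _ ⟨t, ht, rfl⟩
      obtain ⟨v, hv, rfl⟩ := (hTmem t).1 ht
      refine actOn_fix e ?_
      show coreProj a ⟨s, _⟩ * coreProj a ⟨v, _⟩ * (coreProj a ⟨s, _⟩)⁻¹ = coreProj a ⟨v, _⟩
      rw [← map_inv, ← map_mul, ← map_mul]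
      exact congrArg _ (Subtype.ext (show s * v * s⁻¹ = v by
        rw [← mem_centralizer_iff.1 (h.top.cent hs) v hv.1, mul_inv_cancel_right]))
  refine commutator_le.2 fun s hs t ht => ?_
  refine mem_pre.2 ⟨mul_mem (mul_mem (mul_mem (h.cent_S ha hs) (h.cent_S ha ht))
    (inv_mem (h.cent_S ha hs))) (inv_mem (h.cent_S ha ht)), (actOn_eq_one_iff e).1 ?_⟩
  show f (⁅(⟨s, h.cent_S ha hs⟩ : ↥(centralizer ({a} : Set G))), ⟨t, h.cent_S ha ht⟩⁆) = 1
  obtain ⟨p, hp, ep⟩ := hinner s hs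
  obtain ⟨q, hq, eq'⟩ := hinner t ht
  rw [map_commutatorElement, ep, eq', ← map_commutatorElement]
  have h1 := hd.piece.sq p hp
  have h2 := hd.piece.sq q hq
  have h3 := hd.piece.sq _ (mul_mem hp hq)
  rw [commutatorElement_def, show p⁻¹ = p from inv_eq_of_mul_eq_one_right h1,
    show q⁻¹ = q from inv_eq_of_mul_eq_one_right h2, mul_assoc, h3, map_one]

/-- The involution centralising every component. -/
theorem exists_x : ∃ x : G, x ∈ (S : Subgroup G) ∧ orderOf x = 2 ∧ x ∉ A ∧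
    ∀ (a : G) (ha : a ∈ A) (ha1 : a ≠ 1), x ∈ cen a (h.comp ha ha1) := by
  have hne : ⁅(S : Subgroup G), (S : Subgroup G)⁆ ≠ ⊥ := fun e0 => h.hyp.cfg.sylow_nonab
    ⟨⟨fun p q => Subtype.ext (commutatorElement_eq_one_iff_mul_comm.1
      (mem_bot.1 (e0 ▸ commutator_mem_commutator p.2 q.2)))⟩⟩
  have hp : IsPGroup 2 ↥⁅(S : Subgroup G), (S : Subgroup G)⁆ :=
    S.isPGroup'.to_le (commutator_le_self _)
  obtain ⟨n, hn⟩ := IsPGroup.iff_card.1 hp
  have hn0 : n ≠ 0 := fun e0 => hne (Subgroup.card_eq_one.1 (by rw [hn, e0, pow_zero]))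
  obtain ⟨⟨x, hx⟩, hx2⟩ := exists_prime_orderOf_dvd_card' 2 (hn ▸ dvd_pow_self 2 hn0)
  rw [← Subgroup.orderOf_coe] at hx2
  refine ⟨x, commutator_le_self _ hx, hx2, fun hxA => ?_,
    fun a ha ha1 => h.derived_le_cen ha ha1 hx⟩
  have hall : ∀ a ∈ A, a = 1 ∨ a = x := fun a ha => by
    by_cases ha1 : a = 1
    · exact Or.inl ha1
    rcases h.mem_qp_iff ha ha1 ⟨hxA, h.derived_le_cen ha ha1 hx⟩ with e | e
    · exact absurd e (by rintro rfl; simp at hx2)
    · exact Or.inr e.symm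
  have hle : A ≤ zpowers x := fun a ha => by
    rcases hall a ha with rfl | rfl
    · exact one_mem _
    · exact mem_zpowers _
  have := card_le_of_le hle
  rw [h.eight, Nat.card_zpowers, hx2] at this
  omega

end ST

end Cfsg.Agent.H82.WA
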