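import Cfsg.Agent.H82.WA.SmallTopData
import Cfsg.Agent.H21.WA.Link
import Cfsg.Agent.Components.TTZStar
import Cfsg.Agent.S2791

/-!
# The spread on eight elements: the centraliser of the involution `x`

`C(x)` modulo its core has one met component `J`, it contains the image of `A` and has a Sylow
2-subgroup of order eight; in `C(e * x)` the element `e` is central modulo the core.
-/

set_option autoImplicit false
set_option linter.unusedSectionVars false
set_option linter.style.haveILetI false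

namespace Cfsg.Agent.H82.WA

open Subgroup Cfsg.Agent H77.WA
open Cfsg.Agent.H88.Walter (Bb pre cen vp qp mem_pre core perfPart)
open Cfsg.Agent.H21.Walter (coreImage coreProj coreProj_eq_one_iff OddTrivialAt)
open Cfsg.Agent.H10.Walter (AbSyl)
open scoped commutatorElement

universe u

variable {G : Type u} [Group G] [Finite G] {S : Sylow 2 G} {A : Subgroup G}

local instance fact_two_stx : Fact (Nat.Prime 2) := ⟨Nat.prime_two⟩

/-- An involution centralising `A` and all the components, outside `A`. -/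
structure Inv (h : ST S A) (x : G) : Prop where
  mem : x ∈ (S : Subgroup G)
  two : orderOf x = 2
  not_mem : x ∉ A
  cen : ∀ (a : G) (ha : a ∈ A) (ha1 : a ≠ 1), x ∈ H88.Walter.cen a (h.comp ha ha1)

namespace Inv

variable {h : ST S A} {x : G} (hx : Inv h x)
include hx

theorem cent : x ∈ centralizer (A : Set G) := h.top.cent hx.mem

theorem cent_single {a : G} (ha : a ∈ A) : x ∈ centralizer ({a} : Set G) := h.cent_S ha hx.mem

theorem link {b : G} (hb : b ∈ A) (hb1 : b ≠ 1) :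
    ∃ J : Subgroup (Bb x), CMet A x J ∧ vp A b (h.comp hb hb1) ≤ vp A x J ∧
      qp A x J ≤ qp A b (h.comp hb hb1) ∧
      perfPart (centralizer ({x} : Set G) ⊓ pre b (h.comp hb hb1)) ≤ pre x J ∧
      coreImage b (perfPart (centralizer ({x} : Set G) ⊓ pre b (h.comp hb hb1))) = h.comp hb hb1 :=
  H21.WA.link h.hyp.cfg h.hyp.bar h.hyp.types (h.hyp.le_centralizer hb) (h.hyp.orderOf_eq hb hb1)
    hx.cent hx.two (h.comp_met hb hb1) (hx.cen b hb hb1)

/-- The one component of `C(x)`. -/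
theorem exists_J : ∃ J : Subgroup (Bb x), CMet A x J ∧ ∀ J' : Subgroup (Bb x), CMet A x J' → J' = J := by
  obtain ⟨a, ha, ha1⟩ := A.bot_or_exists_ne_one.resolve_left h.hyp.cfg.ne_bot
  obtain ⟨J, hJ, hV, -, -, -⟩ := hx.link ha ha1
  refine ⟨J, hJ, fun J' hJ' => ?_⟩
  by_contra hne
  have hAx : A ≤ centralizer ({x} : Set G) := H21.WA.le_centralizer_singleton hx.cent
  have hle : vp A a (h.comp ha ha1) ≤ qp A x J' := hV.trans (inf_le_inf le_rfl
    (H88.Walter.pre_mono (commutator_eq_bot_iff_le_centralizer.1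
      (Components.components_commute hJ.1 hJ'.1 (Ne.symm hne)))))
  have hsub : coreImage x (qp A x J') ≤ coreImage x A ⊓ centralizer (J' : Set (Bb x)) := by
    intro y hy
    obtain ⟨g, hg, hgq, rfl⟩ := H18.WA.mem_coreImage.1 hy
    exact ⟨H18.WA.mem_coreImage.2 ⟨g, hg, hgq.1, rfl⟩, (mem_pre.1 hgq.2).2⟩
  have h4 := (h.hyp.bar G S A h.hyp.cfg x hx.cent hx.two).four J' hJ'
  have h1 := card_le_of_le hsub
  rw [H21.Walter.card_coreImage h.hyp.cfg.elem (show qp A x J' ≤ A from inf_le_left)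
    ((show qp A x J' ≤ A from inf_le_left).trans hAx)] at h1
  rw [H21.Walter.card_coreImage h.hyp.cfg.elem le_rfl hAx, h.eight] at h4
  have h2 := card_le_of_le hle
  rw [h.card_vp ha ha1 (h.comp_met ha ha1)] at h2
  omega

/-- The properties of the component `J`. -/
theorem exists_data : ∃ J : Subgroup (Bb x), J.Normal ∧ coreImage x A ≤ J ∧ ∃ hZ : center ↥J = ⊥,
    ∀ (b : G) (hb : b ∈ A), b ≠ 1 → ∀ y : ↥J,
      (y : Bb x) = coreProj x ⟨b, H21.WA.le_centralizer_singleton hx.cent hb⟩ →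
        OddTrivialAt (quotEquiv hZ y) := by
  obtain ⟨J, hJ, huniq⟩ := hx.exists_J
  have hst := h.hyp.bar G S A h.hyp.cfg x hx.cent hx.two
  have hAx : A ≤ centralizer ({x} : Set G) := H21.WA.le_centralizer_singleton hx.cent
  haveI hJn : J.Normal := ⟨fun y hy z => huniq _ (hst.met_conj J hJ z) ▸ ⟨y, hy, rfl⟩⟩
  -- the kernel is trivial
  have hqp : qp A x J = ⊥ := by
    refine (eq_bot_iff_forall _).2 fun q hq => ?_
    by_contra hq1
    obtain ⟨b, hb, hb1⟩ : ∃ b ∈ A, b ∉ zpowers q := by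
      by_contra hc
      push Not at hc
      have := card_le_of_le (show A ≤ zpowers q from hc)
      rw [h.eight, Nat.card_zpowers, h.hyp.orderOf_eq hq.1 hq1] at this
      omega
    have hb1' : b ≠ 1 := fun e => hb1 (e ▸ one_mem _)
    obtain ⟨J', hJ', -, hR, -, -⟩ := hx.link hb hb1'
    obtain rfl := huniq J' hJ'
    rcases h.mem_qp_iff hb hb1' (hR hq) with e | e
    · exact hq1 e
    · exact hb1 (e ▸ mem_zpowers q)
  have hcJ : coreImage x A ⊓ centralizer (J : Set (Bb x)) = ⊥ := by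
    refine (eq_bot_iff_forall _).2 fun y hy => ?_
    obtain ⟨g, hg, hgA, rfl⟩ := H18.WA.mem_coreImage.1 hy.1
    have : g ∈ qp A x J := ⟨hgA, mem_pre.2 ⟨hg, hy.2⟩⟩
    rw [hqp, mem_bot] at this
    subst this
    exact map_one _
  have hAJ : coreImage x A ≤ J := (hst.split J hJ).trans (by rw [hcJ, sup_bot_eq]; exact inf_le_right)
  -- a non-soluble centraliser inside `J`
  have key : ∀ (b : G) (hb : b ∈ A), b ≠ 1 →
      ¬ Group.IsSolvable ↥(centralizer ({QuotientGroup.mk' (center ↥J)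
        ⟨coreProj x ⟨b, hAx hb⟩, hAJ (H18.WA.mem_coreImage.2 ⟨b, hAx hb, hb, rfl⟩)⟩} : Set (Quot J))) := by
    intro b hb hb1 hsol
    obtain ⟨J', hJ', -, -, hM, him⟩ := hx.link hb hb1
    obtain rfl := huniq J' hJ'
    set D := centralizer ({x} : Set G) ⊓ pre b (h.comp hb hb1)
    have hMx : perfPart D ≤ centralizer ({x} : Set G) := (H88.Walter.perfPart_le D).trans inf_le_left
    have hMb : perfPart D ≤ centralizer ({b} : Set G) :=
      (H88.Walter.perfPart_le D).trans (inf_le_right.trans (H88.Walter.pre_le _ _))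
    refine H21.WA.not_le_core (y := x) (h.comp_met hb hb1).1 (H88.Walter.perfPart_perfect D) him
      ((H21.WA.coreImage_eq_bot_iff hMx).1 ?_)
    have hYJ : coreImage x (perfPart D) ≤ J' := (H21.WA.coreImage_le_iff hMx).2 hM
    refine H21.WA.perfect_eq_bot (H21.WA.solvable_of_image hYJ hsol ?_) le_rfl
      (H21.WA.perfect_coreImage' hMx (H88.Walter.perfPart_perfect D))
    rintro _ ⟨y, hy, rfl⟩
    refine mem_centralizer_singleton_iff.2 ?_
    rw [← map_mul, ← map_mul]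
    refine congrArg _ (Subtype.ext ?_)
    obtain ⟨m, hm, hmM, e⟩ := H18.WA.mem_coreImage.1 (mem_subgroupOf.1 hy)
    show (y : Bb x) * coreProj x ⟨b, hAx hb⟩ = coreProj x ⟨b, hAx hb⟩ * (y : Bb x)
    rw [← e, ← map_mul, ← map_mul]
    exact congrArg _ (Subtype.ext (mem_centralizer_singleton_iff.1 (hMb hmM)))
  have hnc : ∀ (b : G) (hb : b ∈ A), b ≠ 1 → coreProj x ⟨b, hAx hb⟩ ∉ centralizer (J : Set (Bb x)) :=
    fun b hb hb1 hc => hb1 (mem_bot.1 (hqp ▸ (⟨hb, mem_pre.2 ⟨hAx hb, hc⟩⟩ : b ∈ qp A x J)))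
  obtain ⟨a, ha, ha1⟩ := A.bot_or_exists_ne_one.resolve_left h.hyp.cfg.ne_bot
  have hAT : AType (Quot J) := by
    refine (hst.type J hJ).resolve_right fun hN => key a ha ha1 ?_
    obtain ⟨T⟩ : Nonempty (Sylow 2 (Quot J)) := inferInstance
    obtain ⟨V, hV⟩ := h.hyp.types.nab _ hN T
    refine hV.soluble _ (H21.WA.quot_involution _ ?_ (hnc a ha ha1))
    rw [← map_mul, ← map_one (coreProj x)]
    exact congrArg _ (Subtype.ext (h.hyp.sq ha))
  have hZ : center ↥J = ⊥ := hst.center_bot J hJ hAT.2.2.1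
  refine ⟨J, hJn, hAJ, hZ, fun b hb hb1 y hy => ?_⟩
  obtain ⟨T, hT⟩ := ((h.hyp.isPGroup.comap_subtype.map (coreProj x) :
    IsPGroup 2 ↥(coreImage x A)).comap_subtype (K := J)).exists_le_sylow
  set Tq : Sylow 2 (Quot J) := T.mapSurjective (f := (quotEquiv hZ).toMonoidHom) (quotEquiv hZ).surjective
  have hd := h.hyp.types.ab _ hAT Tq
  have hyT : quotEquiv hZ y ∈ (Tq : Subgroup (Quot J)) := mem_map_of_mem _ (hT (show
    (y : Bb x) ∈ coreImage x A from hy ▸ H18.WA.mem_coreImage.2 ⟨b, hAx hb, hb, rfl⟩))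
  have hy1 : quotEquiv hZ y ≠ 1 := fun e => by
    have : y = 1 := (quotEquiv hZ).injective (e.trans (map_one _).symm)
    exact hnc b hb hb1 (by rw [← hy, this]; exact one_mem _)
  have h8 : Nat.card (Tq : Subgroup (Quot J)) = 8 := by
    refine hd.soluble_or_eight _ hyT hy1 fun hs => key b hb hb1 ?_
    rwa [show y = ⟨coreProj x ⟨b, hAx hb⟩, hAJ (H18.WA.mem_coreImage.2 ⟨b, hAx hb, hb, rfl⟩)⟩ from
      Subtype.ext hy] at hs
  rcases hd.piece.type with hu | hu
  · exact absurd (h8.symm.trans hu.1) (by norm_num)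
  · exact hu _ hyT hy1

theorem coreX {b : G} (hb : b ∈ A) (hb1 : b ≠ 1) {W : Subgroup G}
    (hW : W ≤ centralizer ({x} : Set G) ⊓ centralizer ({b} : Set G)) (hodd : Odd (Nat.card W))
    (hn : centralizer ({x} : Set G) ⊓ centralizer ({b} : Set G) ≤ normalizer (W : Set G)) :
    ⁅W, A⁆ ≤ core x := by
  obtain ⟨J, hJn, hAJ, hZ, htriv⟩ := hx.exists_data
  haveI := hJn
  have hAx : A ≤ centralizer ({x} : Set G) := H21.WA.le_centralizer_singleton hx.cent
  have hWx : W ≤ centralizer ({x} : Set G) := hW.trans inf_le_left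
  set y : ↥J := ⟨coreProj x ⟨b, hAx hb⟩, hAJ (H18.WA.mem_coreImage.2 ⟨b, hAx hb, hb, rfl⟩)⟩
  have hle : coreImage x W ≤ centralizer (J : Set (Bb x)) := by
    refine le_centralizer_of_oddTrivial (quotEquiv hZ) (x := y) (htriv b hb hb1 y rfl) ?_ ?_ ?_
    · exact hodd.of_dvd_nat ((card_map_dvd _ _).trans
        (Nat.card_congr (subgroupOfEquivOfLe hWx).toEquiv).dvd)
    · intro w hw
      obtain ⟨g, hg, hgW, rfl⟩ := H18.WA.mem_coreImage.1 hw
      show coreProj x ⟨g, hg⟩ * coreProj x ⟨b, hAx hb⟩ * (coreProj x ⟨g, hg⟩)⁻¹ = coreProj x ⟨b, hAx hb⟩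
      rw [← map_inv, ← map_mul, ← map_mul]
      exact congrArg _ (Subtype.ext (mul_inv_eq_iff_eq_mul.2
        (mem_centralizer_singleton_iff.1 (hW hgW).2)))
    · intro l hl
      refine H21.Walter.centralizer_le_normalizer_coreImage (P := zpowers b)
        (h.hyp.isPGroup.to_le (zpowers_le.2 hb)) (fun g hg => hn ⟨hg.2,
          mem_centralizer_singleton_iff.2 (mem_centralizer_iff.1 hg.1 _ (mem_zpowers _)).symm⟩)
        (zpowers_le.2 (hAx hb)) ?_
      refine mem_centralizer_iff.2 fun z hz => ?_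
      obtain ⟨u, hua, hu, rfl⟩ := H18.WA.mem_coreImage.1 hz
      obtain ⟨i, rfl⟩ := mem_zpowers_iff.1 hu
      rw [show (⟨b ^ i, hua⟩ : ↥(centralizer ({x} : Set G))) = ⟨b, hAx hb⟩ ^ i from
        Subtype.ext (by simp), map_zpow]
      exact (Commute.zpow_right (congrArg Subtype.val hl.eq : Commute (l : Bb x) (y : Bb x)) i).eq.symm
  refine commutator_le.2 fun w hw a ha => ?_
  refine (coreProj_eq_one_iff (x := ⁅(⟨w, hWx hw⟩ : ↥(centralizer ({x} : Set G))), ⟨a, hAx ha⟩⁆)).1 ?_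
  rw [map_commutatorElement, commutatorElement_eq_one_iff_mul_comm]
  exact (mem_centralizer_iff.1 (hle (H18.WA.mem_coreImage.2 ⟨w, _, hw, rfl⟩)) _
    (hAJ (H18.WA.mem_coreImage.2 ⟨a, _, ha, rfl⟩))).symm

/-- A conjugate of `e` in `A` by an element of `N(A) ∩ C(e * x)` is `e`. -/
theorem fix {e n : G} (he : e ∈ A) (he1 : e ≠ 1) (hn : n ∈ normalizer (A : Set G))
    (hny : n * (e * x) * n⁻¹ = e * x) : n * e * n⁻¹ = e := by
  set f := n * e * n⁻¹ with hf
  have hfA : f ∈ A := (mem_normalizer_iff.1 hn e).1 he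
  have hf1 : f ≠ 1 := fun e0 => he1 (conj_eq_one_iff.1 e0)
  have hxe := (h.mem_trivOn he he1).2 (hx.cen e he he1)
  have hxf : n * x * n⁻¹ ∈ H88.Walter.cen f (h.comp hfA hf1) := by
    refine (h.mem_trivOn hfA hf1).1 ⟨Coprime.mem_relCentralizer.2 ⟨?_, fun g hg => ?_⟩, ?_⟩
    · refine H88.Walter.core_normal f (mem_centralizer_singleton_iff.2 ?_)
      rw [hf]
      calc n * x * n⁻¹ * (n * e * n⁻¹) = n * (x * e) * n⁻¹ := by group
        _ = n * (e * x) * n⁻¹ := by rw [mem_centralizer_singleton_iff.1 hxe.2]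
        _ = _ := by group
    · have hg' : n⁻¹ * g * n ∈ h.pF e := by
        have := h.pF_conj (inv_mem hn) hfA hf1 hg
        simpa [hf, mul_assoc] using this
      have h1 := H85.ElemEight.conj_coreAt n ((Coprime.mem_relCentralizer.1 hxe.1).2 _ hg')
      rw [← hf] at h1
      simpa [commutatorElement_def, mul_assoc] using h1
    · refine mem_centralizer_singleton_iff.2 ?_
      rw [hf]
      calc n * x * n⁻¹ * (n * e * n⁻¹) = n * (x * e) * n⁻¹ := by group
        _ = n * (e * x) * n⁻¹ := by rw [mem_centralizer_singleton_iff.1 hxe.2]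
        _ = _ := by group
  have hxf' := hx.cen f hfA hf1
  have heq : e = f * (n * x * n⁻¹) * x⁻¹ := by
    rw [hf]
    calc e = e * x * x⁻¹ := by group
      _ = n * (e * x) * n⁻¹ * x⁻¹ := by rw [hny]
      _ = _ := by group
  have hecen : e ∈ H88.Walter.cen f (h.comp hfA hf1) := by
    rw [heq]
    exact Subgroup.mul_mem _ (Subgroup.mul_mem _ (h.hyp.self_mem_qp hfA hf1 (h.comp_met hfA hf1)).2 hxf)
      (Subgroup.inv_mem _ hxf')
  rcases h.mem_qp_iff hfA hf1 (⟨he, hecen⟩ : e ∈ qp A f (h.comp hfA hf1)) with e0 | e0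
  · exact absurd e0 he1
  · exact e0.symm

/-- `e` is central modulo the core of `C(e * x)`. -/
theorem exc {e : G} (he : e ∈ A) (he1 : e ≠ 1) {g : G}
    (hg : g ∈ centralizer ({e * x} : Set G)) : ⁅g, e⁆ ∈ core (e * x) := by
  set H := centralizer ({e * x} : Set G) with hH
  have hyA : e * x ∈ centralizer (A : Set G) := mul_mem (h.hyp.le_centralizer he) hx.cent
  have hAH : A ≤ H := H21.WA.le_centralizer_singleton hyA
  have hp : IsPGroup 2 ↥(A.subgroupOf H) := h.hyp.isPGroup.comap_subtype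
  obtain ⟨P, hP⟩ := hp.exists_le_sylow
  haveI := h.hyp.cfg.elem.1
  have hab : IsMulCommutative ↥(A.subgroupOf H) := ⟨⟨fun p q => Subtype.ext (Subtype.ext
    (h.hyp.comm p.2 q.2).eq)⟩⟩
  have hcl : Cfsg.IsStronglyClosed (A.subgroupOf H) (P : Subgroup ↥H) := by
    refine ⟨hP, fun u hu k hk => mem_subgroupOf.2 ?_⟩
    set PG := (P : Subgroup ↥H).map H.subtype
    have hPG : A ≤ PG := fun a ha => ⟨⟨a, hAH ha⟩, hP ha, rfl⟩
    obtain ⟨c, hc⟩ := H39.exists_conj_le_sylow (p := 2) (P.isPGroup'.map H.subtype) S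
    have hcA : c ∈ normalizer (A : Set G) := H39.mem_normalizer_of_conj_mem fun a ha =>
      h.hyp.cfg.closed.2 a ha c (hc a (hPG ha))
    have h1 : c * ((k * u * k⁻¹ : ↥H) : G) * c⁻¹ ∈ (S : Subgroup G) := hc _ ⟨_, hk, rfl⟩
    rw [mem_normalizer_iff.1 hcA]
    have e1 : c * ((k * u * k⁻¹ : ↥H) : G) * c⁻¹ = c * k * u * (c * k)⁻¹ := by
      push_cast; group
    rw [e1] at h1 ⊢
    exact h.hyp.cfg.closed.2 u (mem_subgroupOf.1 hu) _ h1
  obtain ⟨T, hAT, hT⟩ := S2791.result P (A.subgroupOf H) hab hcl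
  set u : ↥H := ⟨e, hAH he⟩ with hu
  have hu2 : orderOf u = 2 := by rw [← Subgroup.orderOf_coe]; exact h.hyp.orderOf_eq he he1
  obtain ⟨N, hNn, hNodd, hN⟩ := Components.zStarTheorem T u hu2 (hAT (show u ∈ A.subgroupOf H from he))
    fun k hk => by
    obtain ⟨n, hn, hne⟩ := (hT {u} (Set.singleton_subset_iff.2 (hAT (show u ∈ A.subgroupOf H from he)))).2 k (by
      rintro _ ⟨v, hv, rfl⟩
      rw [Set.mem_singleton_iff.1 hv]
      exact hk)
    rw [hne u rfl]
    have hnA : (n : G) ∈ normalizer (A : Set G) := H39.mem_normalizer_of_conj_mem fun a ha =>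
      (mem_normalizer_iff.1 hn ⟨a, hAH ha⟩).1 ha
    refine Subtype.ext (hx.fix he he1 hnA ?_)
    rw [mem_centralizer_singleton_iff.1 n.2, mul_inv_cancel_right]
  have h2 : u * ⟨g, hg⟩ * u⁻¹ * ⟨g, hg⟩⁻¹ ∈ Cfsg.pPrimeCore 2 ↥H :=
    Cores.le_oddCore (G := ↥H) hNodd (hN ⟨g, hg⟩)
  have h3 : ((⁅(⟨g, hg⟩ : ↥H), u⁆ : ↥H) : G) ∈ core (e * x) :=
    mem_map_of_mem H.subtype (show ⁅(⟨g, hg⟩ : ↥H), u⁆ ∈ Cfsg.pPrimeCore 2 ↥H by
      rw [← commutatorElement_inv]; exact inv_mem h2)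
  exact h3

end Inv

end Cfsg.Agent.H82.WA
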