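import Cfsg.Agent.H77.WA.Defs
import Cfsg.Agent.H39.Basic
import Cfsg.Agent.Components.PLocal
import Cfsg.Agent.H18.WA.Pairs

/-!
# The top components of a minimal counterexample: basic facts

A met component `(b, L)` splits `A` as `vp × qp`; an element of `N(A)` fixes `qp` and cycles `vp`.
-/

set_option autoImplicit false
set_option linter.style.haveILetI false
set_option linter.unusedSectionVars false

namespace Cfsg.Agent.H82.WA

open Subgroup Cfsg.Agent H77.WA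
open Cfsg.Agent.H88.Walter (Bb pre cen vp qp mem_pre)
open Cfsg.Agent.H21.Walter (coreImage coreProj coreProj_eq_one_iff)

universe u

variable {G : Type u} [Group G] [Finite G]

local instance fact_two_top : Fact (Nat.Prime 2) := ⟨Nat.prime_two⟩

/-- The hypotheses of the top step. -/
structure Hyp (S : Sylow 2 G) (A : Subgroup G) : Prop where
  cfg : Cfg S A
  clean : Clean A
  types : TypeFacts.{u}
  bar : BarStruct.{u}
  conj : ConjFacts.{u}
  link : LinkFacts.{u}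

variable {S : Sylow 2 G} {A : Subgroup G}

namespace Hyp

variable (h : Hyp S A)
include h

theorem le_S : A ≤ (S : Subgroup G) := h.cfg.closed.1

theorem comm {x y : G} (hx : x ∈ A) (hy : y ∈ A) : Commute x y :=
  congrArg Subtype.val (h.cfg.elem.1.is_comm.comm (⟨x, hx⟩ : A) ⟨y, hy⟩)

theorem sq {x : G} (hx : x ∈ A) : x * x = 1 := by rw [← pow_two]; exact h.cfg.elem.2 x hx

theorem le_centralizer : A ≤ centralizer (A : Set G) := fun _ hx =>
  mem_centralizer_iff.2 fun _ hy => (h.comm hy hx).eq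

theorem le_cent {b : G} (hb : b ∈ A) : A ≤ centralizer ({b} : Set G) := fun _ hx =>
  mem_centralizer_singleton_iff.2 (h.comm hx hb).eq

theorem orderOf_eq {x : G} (hx : x ∈ A) (hx1 : x ≠ 1) : orderOf x = 2 :=
  orderOf_eq_prime (h.cfg.elem.2 x hx) hx1

theorem isPGroup : IsPGroup 2 A := H47.isPGroup_of_elementaryAbelian h.cfg.elem

theorem S_le_normalizer : (S : Subgroup G) ≤ normalizer (A : Set G) := fun _ hs =>
  H39.mem_normalizer_of_conj_mem fun a ha => h.cfg.closed.2 a ha _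
    (mul_mem (mul_mem hs (h.le_S ha)) (inv_mem hs))

/-- `A` as a commutative group. -/
theorem sq_sub (w : A) : w * w = 1 := Subtype.ext (h.sq w.2)

theorem proj_injOn {b x y : G} (hxA : x ∈ A) (hyA : y ∈ A) {hx : x ∈ centralizer ({b} : Set G)}
    {hy : y ∈ centralizer ({b} : Set G)} (e : coreProj b ⟨x, hx⟩ = coreProj b ⟨y, hy⟩) : x = y := by
  have h1 : coreProj b (⟨x, hx⟩⁻¹ * ⟨y, hy⟩) = 1 := by rw [map_mul, map_inv, e, inv_mul_cancel]
  exact congrArg Subtype.val (inv_mul_eq_one.1 (H21.Walter.coreProj_injOn h.cfg.elem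
    (show ((⟨x, hx⟩⁻¹ * ⟨y, hy⟩ : ↥(centralizer ({b} : Set G))) : G) ∈ A from
      mul_mem (inv_mem hxA) hyA) h1))

theorem struct {b : G} (hb : b ∈ A) (hb1 : b ≠ 1) : Struct (coreImage b A) :=
  h.bar G S A h.cfg b (h.le_centralizer hb) (h.orderOf_eq hb hb1)

theorem mem_image {b : G} (hb : b ∈ A) {y : Bb b} :
    y ∈ coreImage b A ↔ ∃ (a : G) (ha : a ∈ A), coreProj b ⟨a, h.le_cent hb ha⟩ = y := by
  constructor
  · rintro ⟨x, hx, rfl⟩
    exact ⟨x, hx, rfl⟩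
  · rintro ⟨a, ha, rfl⟩
    exact ⟨_, show (⟨a, h.le_cent hb ha⟩ : ↥(centralizer ({b} : Set G))) ∈ A.subgroupOf _ from ha,
      rfl⟩

section Met

variable {b : G} (hb : b ∈ A) (hb1 : b ≠ 1) {L : Subgroup (Bb b)} (hL : CMet A b L)
include hb hb1 hL

theorem center_bot : center ↥L = ⊥ := (h.clean b hb hb1 L hL).1

theorem sup_eq : vp A b L ⊔ qp A b L = A := (h.clean b hb hb1 L hL).2.2.1

theorem inf_eq : vp A b L ⊓ qp A b L = ⊥ := (h.clean b hb hb1 L hL).2.2.2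

theorem self_mem_qp : b ∈ qp A b L := by
  refine ⟨hb, mem_pre.2 ⟨h.le_cent hb hb, mem_centralizer_iff.2 fun y _ => ?_⟩⟩
  obtain ⟨z, rfl⟩ := H88.Walter.coreProj_surjective b y
  rw [← map_mul, ← map_mul]
  exact congrArg _ (Subtype.ext (mem_centralizer_singleton_iff.1 z.2))

theorem isCompl : IsCompl ((qp A b L).subgroupOf A) ((vp A b L).subgroupOf A) := by
  refine ⟨disjoint_iff.2 ((eq_bot_iff_forall _).2 fun x hx => Subtype.ext ?_), codisjoint_iff.2 ?_⟩
  · exact mem_bot.1 (h.inf_eq hb hb1 hL ▸ (⟨hx.2, hx.1⟩ : (x : G) ∈ vp A b L ⊓ qp A b L))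
  · rw [← subgroupOf_sup (show qp A b L ≤ A from inf_le_left) (show vp A b L ≤ A from inf_le_left), sup_comm,
      h.sup_eq hb hb1 hL, subgroupOf_self]

theorem card_mul : Nat.card ↥(qp A b L) * Nat.card ↥(vp A b L) = Nat.card A := by
  haveI := h.cfg.elem.1
  letI : CommGroup A := { (inferInstance : Group A) with mul_comm := IsMulCommutative.is_comm.comm }
  rw [H18.WA.card_mul (h.isCompl hb hb1 hL),
    Nat.card_congr (subgroupOfEquivOfLe (show qp A b L ≤ A from inf_le_left)).toEquiv,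
    Nat.card_congr (subgroupOfEquivOfLe (show vp A b L ≤ A from inf_le_left)).toEquiv]

theorem four_le : 4 ≤ Nat.card ↥(vp A b L) := by
  have hle : coreImage b (qp A b L) ≤ coreImage b A ⊓ centralizer (L : Set (Bb b)) := by
    rintro _ ⟨x, hx, rfl⟩
    exact ⟨(h.mem_image hb).2 ⟨x, hx.1, rfl⟩, (mem_pre.1 hx.2).2⟩
  have h4 := (h.struct hb hb1).four L hL
  have h1 := card_le_of_le hle
  rw [H21.Walter.card_coreImage h.cfg.elem (show qp A b L ≤ A from inf_le_left)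
    ((show qp A b L ≤ A from inf_le_left).trans (h.le_cent hb))] at h1
  rw [H21.Walter.card_coreImage h.cfg.elem le_rfl (h.le_cent hb), ← h.card_mul hb hb1 hL] at h4
  have hpos := Nat.card_pos (α := qp A b L)
  refine Nat.le_of_mul_le_mul_left ?_ hpos
  calc Nat.card (qp A b L) * 4 ≤ 4 * Nat.card ↥(coreImage b A ⊓ centralizer (L : Set (Bb b))) := by
        rw [mul_comm]; exact Nat.mul_le_mul_left 4 h1
    _ ≤ _ := h4

theorem vp_ne_bot : vp A b L ≠ ⊥ := fun e => by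
  have := h.four_le hb hb1 hL
  rw [e, Subgroup.card_bot] at this
  omega

theorem qp_ne : qp A b L ≠ A := fun e => by
  refine h.vp_ne_bot hb hb1 hL ?_
  rw [← h.inf_eq hb hb1 hL, e]
  exact (inf_eq_left.2 inf_le_left).symm

theorem vp_le_qp {L' : Subgroup (Bb b)} (hL' : CMet A b L') (hne : L' ≠ L) :
    vp A b L' ≤ qp A b L :=
  inf_le_inf le_rfl (H88.Walter.pre_mono (commutator_eq_bot_iff_le_centralizer.1
    (Components.components_commute hL'.1 hL.1 hne)))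

/-- An element of `N(A)` fixes `qp` pointwise and has powers transitive on `vp#`. -/
theorem exists_cyc : ∃ n ∈ normalizer (A : Set G),
    (∀ q ∈ qp A b L, n * q * n⁻¹ = q) ∧ (∀ x ∈ vp A b L, n * x * n⁻¹ ∈ vp A b L) ∧
      ∀ v ∈ vp A b L, ∀ w ∈ vp A b L, v ≠ 1 → w ≠ 1 → ∃ i : ℕ, n ^ i * v * (n ^ i)⁻¹ = w := by
  have hst := h.struct hb hb1
  have hAp : IsPGroup 2 ↥(coreImage b A) := h.isPGroup.comap_subtype.map _
  obtain ⟨T, hT⟩ := (hAp.comap_subtype (K := L)).exists_le_sylow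
  set q := QuotientGroup.mk' (center ↥L)
  have hq : Function.Injective q := by
    rw [← MonoidHom.ker_eq_bot_iff, QuotientGroup.ker_mk', h.center_bot hb hb1 hL]
  have hqs : Function.Surjective q := QuotientGroup.mk'_surjective _
  set T' : Sylow 2 (Quot L) := T.mapSurjective hqs
  obtain ⟨V₀, hV₀, hsing⟩ : ∃ V₀ : Subgroup (Quot L),
      (∀ x, x ∈ V₀ ↔ x ∈ (T' : Subgroup (Quot L)) ∧ x * x = 1) ∧
        HasSinger (T' : Subgroup (Quot L)) V₀ := by
    rcases hst.type L hL with ht | ht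
    · have hd := h.types.ab (Quot L) ht T'
      exact ⟨T', fun x => ⟨fun hx => ⟨hx, hd.piece.sq x hx⟩, And.left⟩, hd.singer⟩
    · obtain ⟨V₀, hd⟩ := h.types.nab (Quot L) ht T'
      exact ⟨V₀, hd.mem_iff, hd.singer⟩
  have hmem : ∀ t : L, q t ∈ V₀ ↔ (t : Bb b) ∈ coreImage b A := by
    intro t
    rw [hV₀]
    constructor
    · rintro ⟨⟨t', ht', e⟩, h2⟩
      obtain rfl := hq e
      have h3 := (hst.image L hL T hT t' ht').1 (by
        rw [show t' * t' = 1 from hq (by rw [map_mul, map_one]; exact h2)]; exact one_mem _)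
      rwa [h.center_bot hb hb1 hL, sup_bot_eq] at h3
    · intro ht
      refine ⟨⟨t, hT ht, rfl⟩, ?_⟩
      obtain ⟨a, ha, e⟩ := (h.mem_image hb).1 ht
      rw [← map_mul, show t * t = 1 from Subtype.ext ?_, map_one]
      show (t : Bb b) * t = 1
      rw [← e, ← map_mul, ← map_one (coreProj b)]
      exact congrArg _ (Subtype.ext (h.sq ha))
  obtain ⟨y₀, -, hyV, hyT, -⟩ := hsing
  obtain ⟨k, rfl⟩ := hqs y₀
  -- `k` normalises the image of `A`
  have hkc : ∀ z ∈ centralizer (L : Set (Bb b)), (k : Bb b) * z * (k : Bb b)⁻¹ = z := fun z hz => by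
    rw [mem_centralizer_iff.1 hz k k.2, mul_inv_cancel_right]
  have hkL : ∀ z ∈ coreImage b A ⊓ L, (k : Bb b) * z * (k : Bb b)⁻¹ ∈ coreImage b A ⊓ L := by
    rintro z ⟨hz, hzL⟩
    refine ⟨?_, L.mul_mem (L.mul_mem k.2 hzL) (L.inv_mem k.2)⟩
    have := hyV _ ((hmem ⟨z, hzL⟩).2 hz)
    rw [← map_inv, ← map_mul, ← map_mul] at this
    exact (hmem _).1 this
  set A' := A.subgroupOf (centralizer ({b} : Set G)) with hA'
  have hA'p : IsPGroup 2 ↥A' := h.isPGroup.comap_subtype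
  have hkN : (k : Bb b) ∈ normalizer ((A'.map (coreProj b) : Subgroup (Bb b)) : Set (Bb b)) := by
    refine H39.mem_normalizer_of_conj_mem fun z hz => ?_
    have hsub : coreImage b A ⊓ L ⊔ coreImage b A ⊓ centralizer (L : Set (Bb b)) ≤
        (coreImage b A).comap (MulAut.conj (k : Bb b)).toMonoidHom := by
      refine sup_le (fun w hw => ?_) (fun w hw => ?_)
      · exact (hkL w hw).1
      · show (k : Bb b) * w * (k : Bb b)⁻¹ ∈ coreImage b A
        rw [hkc w hw.2]; exact hw.1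
    exact hsub (hst.split L hL hz)
  rw [coreProj, ← Components.map_normalizer_of_coprime _
    Cores.coprime_card_pPrimeCore hA'p] at hkN
  obtain ⟨g, hgN, hgk⟩ := hkN
  have hgA' : ∀ {x : G}, x ∈ A → (g : G) * x * (g : G)⁻¹ ∈ A := fun {x} hx =>
    (mem_normalizer_iff.1 hgN ⟨x, h.le_cent hb hx⟩).1 hx
  have hgA : (g : G) ∈ normalizer (A : Set G) := H39.mem_normalizer_of_conj_mem fun x hx => hgA' hx
  have hgp : (g : G) ∈ pre b L := mem_pre.2 ⟨g.2, show coreProj b g ∈ L from hgk.symm ▸ k.2⟩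
  refine ⟨g, hgA, fun x hx => ?_, fun x hx => ⟨hgA' hx.1,
    Subgroup.mul_mem _ (Subgroup.mul_mem _ hgp hx.2) (Subgroup.inv_mem _ hgp)⟩, fun v hv w hw hv1 hw1 => ?_⟩
  · refine h.proj_injOn (hgA' hx.1) hx.1 (hx := h.le_cent hb (hgA' hx.1))
      (hy := h.le_cent hb hx.1) ?_
    rw [show (⟨g * x * (g : G)⁻¹, h.le_cent hb (hgA' hx.1)⟩ : ↥(centralizer ({b} : Set G))) =
      g * ⟨x, h.le_cent hb hx.1⟩ * g⁻¹ from rfl, map_mul, map_mul, map_inv,
      show coreProj b g = _ from hgk, hkc _ (mem_pre.1 hx.2).2]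
  have hvL : coreProj b ⟨v, h.le_cent hb hv.1⟩ ∈ L := (mem_pre.1 hv.2).2
  have hwL : coreProj b ⟨w, h.le_cent hb hw.1⟩ ∈ L := (mem_pre.1 hw.2).2
  have hne : ∀ {x : G} (hx : x ∈ A) (hxL : coreProj b ⟨x, h.le_cent hb hx⟩ ∈ L), x ≠ 1 →
      q ⟨_, hxL⟩ ≠ 1 := by
    intro x hx hxL hx1 e
    apply hx1
    apply h.proj_injOn (b := b) hx (one_mem A) (hx := h.le_cent hb hx) (hy := one_mem _)
    rw [show (⟨1, one_mem _⟩ : ↥(centralizer ({b} : Set G))) = 1 from rfl, map_one]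
    exact congrArg Subtype.val (hq (e.trans (map_one q).symm))
  obtain ⟨i, hi⟩ := hyT _ ((hmem ⟨_, hvL⟩).2 ((h.mem_image hb).2 ⟨v, hv.1, rfl⟩))
    _ ((hmem ⟨_, hwL⟩).2 ((h.mem_image hb).2 ⟨w, hw.1, rfl⟩)) (hne hv.1 hvL hv1) (hne hw.1 hwL hw1)
  rw [← map_pow, ← map_inv, ← map_mul, ← map_mul] at hi
  have hiA : (g : G) ^ i * v * ((g : G) ^ i)⁻¹ ∈ A :=
    (mem_normalizer_iff.1 (pow_mem hgA i) _).1 hv.1
  refine ⟨i, h.proj_injOn hiA hw.1 (hx := h.le_cent hb hiA) (hy := h.le_cent hb hw.1) ?_⟩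
  rw [show (⟨(g : G) ^ i * v * ((g : G) ^ i)⁻¹, h.le_cent hb hiA⟩ : ↥(centralizer ({b} : Set G))) =
    g ^ i * ⟨v, h.le_cent hb hv.1⟩ * (g ^ i)⁻¹ from Subtype.ext (by simp), map_mul, map_mul, map_inv,
    map_pow, show coreProj b g = _ from hgk]
  exact congrArg Subtype.val (hq hi)

end Met

/-- A top component passes to every point of its kernel. -/
theorem top_at {b : G} {L : Subgroup (Bb b)} (ht : Top A b L) {r : G} (hr : r ∈ qp A b L)
    (hr1 : r ≠ 1) :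
    ∃ J : Subgroup (Bb r), Top A r J ∧ vp A r J = vp A b L ∧ qp A r J = qp A b L := by
  obtain ⟨hb, hb1, hL, hmax⟩ := ht
  obtain ⟨J, hJ, hV, hR, -⟩ := h.link G S A h.cfg b r (h.le_centralizer hb) (h.orderOf_eq hb hb1)
    (h.le_centralizer hr.1) (h.orderOf_eq hr.1 hr1) L hL hr.2
  have hV' : vp A b L = vp A r J := eq_of_le_of_card_ge hV (hmax r hr.1 hr1 J hJ)
  have hR' : qp A r J = qp A b L := eq_of_le_of_card_ge hR (by
    have h1 := h.card_mul hb hb1 hL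
    rw [hV', ← h.card_mul hr.1 hr1 hJ] at h1
    exact (Nat.eq_of_mul_eq_mul_right Nat.card_pos h1).le)
  exact ⟨J, ⟨hr.1, hr1, hJ, fun b' h1 h2 L' h3 => hV' ▸ hmax b' h1 h2 L' h3⟩, hV'.symm, hR'⟩

/-- Two top components whose kernels meet are equal or lie in each other's kernels. -/
theorem meet {b c : G} {L : Subgroup (Bb b)} {L' : Subgroup (Bb c)} (ht : Top A b L)
    (ht' : Top A c L') {r : G} (hr : r ∈ qp A b L) (hr' : r ∈ qp A c L') (hr1 : r ≠ 1) :
    (vp A c L' = vp A b L ∧ qp A c L' = qp A b L) ∨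
      (vp A c L' ≤ qp A b L ∧ vp A b L ≤ qp A c L') := by
  obtain ⟨J, hJ, hV, hR⟩ := h.top_at ht hr hr1
  obtain ⟨J', hJ', hV', hR'⟩ := h.top_at ht' hr' hr1
  by_cases e : J' = J
  · exact Or.inl ⟨by rw [← hV', e, hV], by rw [← hR', e, hR]⟩
  · refine Or.inr ⟨?_, ?_⟩
    · rw [← hV', ← hR]
      exact h.vp_le_qp hJ.1 hJ.2.1 hJ.2.2.1 hJ'.2.2.1 e
    · rw [← hV, ← hR']
      exact h.vp_le_qp hJ.1 hJ.2.1 hJ'.2.2.1 hJ.2.2.1 (Ne.symm e)

/-- Top components have pieces of one order. -/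
theorem card_top {b c : G} {L : Subgroup (Bb b)} {L' : Subgroup (Bb c)} (ht : Top A b L)
    (ht' : Top A c L') : Nat.card ↥(vp A c L') = Nat.card ↥(vp A b L) :=
  le_antisymm (ht.2.2.2 c ht'.1 ht'.2.1 L' ht'.2.2.1) (ht'.2.2.2 b ht.1 ht.2.1 L ht.2.2.1)

theorem card_top_qp {b c : G} {L : Subgroup (Bb b)} {L' : Subgroup (Bb c)} (ht : Top A b L)
    (ht' : Top A c L') : Nat.card ↥(qp A c L') = Nat.card ↥(qp A b L) := by
  have h1 := h.card_mul ht'.1 ht'.2.1 ht'.2.2.1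
  rw [h.card_top ht ht', ← h.card_mul ht.1 ht.2.1 ht.2.2.1] at h1
  exact Nat.eq_of_mul_eq_mul_right Nat.card_pos h1

/-- `N(A)` permutes the top components. -/
theorem top_conj {b : G} {L : Subgroup (Bb b)} (ht : Top A b L) {n : G}
    (hn : n ∈ normalizer (A : Set G)) :
    ∃ L' : Subgroup (Bb (n * b * n⁻¹)), Top A (n * b * n⁻¹) L' ∧
      vp A (n * b * n⁻¹) L' = (vp A b L).map (MulAut.conj n).toMonoidHom ∧
      qp A (n * b * n⁻¹) L' = (qp A b L).map (MulAut.conj n).toMonoidHom := by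
  obtain ⟨hb, hb1, hL, hmax⟩ := ht
  obtain ⟨L', hL', hV, hR, -, -⟩ := h.conj G A n hn b L hL
  refine ⟨L', ⟨(mem_normalizer_iff.1 hn b).1 hb, fun e => hb1 (conj_eq_one_iff.1 e), hL', ?_⟩, hV,
    hR⟩
  intro b' h1 h2 K hK
  rw [hV, card_map_of_injective (MulAut.conj n).injective]
  exact hmax b' h1 h2 K hK

/-- There is a top component. -/
theorem exists_top (hmet : ∃ b L, b ∈ A ∧ b ≠ 1 ∧ CMet A b L) : ∃ b L, Top A b L := by
  classical
  set N : Set ℕ := {k | ∃ b L, b ∈ A ∧ b ≠ 1 ∧ CMet A b L ∧ Nat.card ↥(vp A b L) = k}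
  have hne : N.Nonempty := by
    obtain ⟨b, L, h1, h2, h3⟩ := hmet
    exact ⟨_, b, L, h1, h2, h3, rfl⟩
  have hbd : BddAbove N := ⟨Nat.card A, by
    rintro _ ⟨b, L, -, -, -, rfl⟩
    exact card_le_of_le inf_le_left⟩
  obtain ⟨b, L, hb, hb1, hL, hk⟩ := Nat.sSup_mem hne hbd
  exact ⟨b, L, hb, hb1, hL, fun b' h1 h2 L' h3 =>
    (le_csSup hbd ⟨b', L', h1, h2, h3, rfl⟩).trans hk.ge⟩

end Hyp

end Cfsg.Agent.H82.WA
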