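import Cfsg.Agent.H82.WA.TopBasic

/-!
# The top step when `|A| > |V|²`: a decomposition into at least three blocks
-/

set_option autoImplicit false
set_option linter.style.haveILetI false
set_option linter.unusedSectionVars false

namespace Cfsg.Agent.H82.WA

open Subgroup Cfsg.Agent H77.WA
open Cfsg.Agent.H88.Walter (Bb vp qp)

universe u

variable {G : Type u} [Group G] [Finite G] {S : Sylow 2 G} {A : Subgroup G}

namespace Hyp

variable (h : Hyp S A)
include h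

theorem exists_common {B C : Subgroup G} (hB : B ≤ A) (hC : C ≤ A)
    (hlt : Nat.card A < Nat.card B * Nat.card C) : ∃ r ∈ B, r ∈ C ∧ r ≠ 1 := by
  by_contra hc
  push Not at hc
  refine absurd hlt (not_lt.2 ?_)
  rw [← Nat.card_prod]
  refine Nat.card_le_card_of_injective (fun p => (⟨p.1 * p.2, mul_mem (hB p.1.2) (hC p.2.2)⟩ : A))
    fun x y e => ?_
  exact mul_injective_of_disjoint (disjoint_iff.2 ((eq_bot_iff_forall _).2 fun r hr => hc r hr.1 hr.2))
    (congrArg Subtype.val e)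

theorem mem_sup_iff {B C : Subgroup G} (hB : B ≤ A) (hC : C ≤ A) {x : G} (hx : x ∈ B ⊔ C) :
    ∃ y ∈ B, ∃ z ∈ C, y * z = x := by
  haveI := h.cfg.elem.1
  letI : CommGroup A := { (inferInstance : Group A) with mul_comm := IsMulCommutative.is_comm.comm }
  have hx' : (⟨x, sup_le hB hC hx⟩ : A) ∈ B.subgroupOf A ⊔ C.subgroupOf A := by
    rw [← subgroupOf_sup hB hC]; exact hx
  obtain ⟨y, hy, z, hz, e⟩ := Subgroup.mem_sup.1 hx'
  exact ⟨y, hy, z, hz, congrArg Subtype.val e⟩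

theorem card_sup_le {B C : Subgroup G} (hB : B ≤ A) (hC : C ≤ A) :
    Nat.card ↥(B ⊔ C) ≤ Nat.card B * Nat.card C := by
  rw [← Nat.card_prod]
  refine Nat.card_le_card_of_surjective
    (fun p => (⟨p.1 * p.2, mul_mem (mem_sup_left p.1.2) (mem_sup_right p.2.2)⟩ : ↥(B ⊔ C))) ?_
  rintro ⟨x, hx⟩
  obtain ⟨y, hy, z, hz, e⟩ := h.mem_sup_iff hB hC hx
  exact ⟨(⟨y, hy⟩, ⟨z, hz⟩), Subtype.ext e⟩

/-- More than two blocks when the kernels always meet. -/
theorem decomp_of_big {b₀ : G} {L₀ : Subgroup (Bb b₀)} (ht₀ : Top A b₀ L₀)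
    (hbig : Nat.card ↥(vp A b₀ L₀) ^ 2 < Nat.card A) : ∃ Ps, Decomp A Ps := by
  set Ps : Set (Subgroup G) := {P | ∃ b L, Top A b L ∧ vp A b L = P} with hPs
  set m := Nat.card ↥(vp A b₀ L₀) with hm
  have hm0 : 0 < m := Nat.card_pos
  have hqp : ∀ {b : G} {L : Subgroup (Bb b)}, Top A b L → m < Nat.card ↥(qp A b L) := by
    intro b L ht
    have h1 := h.card_mul ht.1 ht.2.1 ht.2.2.1
    rw [h.card_top ht₀ ht, ← hm] at h1
    by_contra hle
    have := Nat.mul_le_mul_right m (not_lt.1 hle)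
    rw [pow_two] at hbig
    omega
  -- two kernels always meet
  have hdist : ∀ {b c : G} {L : Subgroup (Bb b)} {L' : Subgroup (Bb c)}, Top A b L → Top A c L' →
      vp A c L' ≠ vp A b L → vp A c L' ≤ qp A b L := by
    intro b c L L' ht ht' hne
    obtain ⟨r, hr, hr', hr1⟩ := h.exists_common (B := qp A b L) (C := qp A c L') inf_le_left inf_le_left
      (by
        rw [← h.card_mul ht.1 ht.2.1 ht.2.2.1, h.card_top ht₀ ht, ← hm]
        exact Nat.mul_lt_mul_of_pos_left (hqp ht') Nat.card_pos)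
    exact ((h.meet ht ht' hr hr' hr1).resolve_left fun e => hne e.1).1
  have hPA : ∀ P ∈ Ps, P ≤ A := by
    rintro _ ⟨b, L, -, rfl⟩
    exact inf_le_left
  have hothers : ∀ {b : G} {L : Subgroup (Bb b)}, Top A b L →
      others Ps (vp A b L) ≤ qp A b L := fun {b L} ht => sSup_le fun Q hQ => by
    obtain ⟨⟨c, L', ht', rfl⟩, hne⟩ := hQ
    exact hdist ht ht' hne
  have hconj : ∀ n ∈ normalizer (A : Set G), ∀ P ∈ Ps,
      P.map (MulAut.conj n).toMonoidHom ∈ Ps := by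
    rintro n hn _ ⟨b, L, ht, rfl⟩
    obtain ⟨L', ht', hV, -⟩ := h.top_conj ht hn
    exact ⟨_, L', ht', hV⟩
  have hsup : sSup Ps = A := by
    refine (h.cfg.irred _ (sSup_le hPA) fun n hn => H39.mem_normalizer_of_conj_mem ?_).resolve_left
      fun e => ?_
    · intro x hx
      exact (sSup_le (a := (sSup Ps).comap (MulAut.conj n).toMonoidHom) fun P hP =>
        map_le_iff_le_comap.1 (le_sSup (hconj n hn P hP))) hx
    · exact h.vp_ne_bot ht₀.1 ht₀.2.1 ht₀.2.2.1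
        (le_bot_iff.1 (e ▸ le_sSup (show vp A b₀ L₀ ∈ Ps from ⟨b₀, L₀, ht₀, rfl⟩)))
  have heq : ∀ {b : G} {L : Subgroup (Bb b)}, Top A b L → others Ps (vp A b L) = qp A b L := by
    intro b L ht
    refine le_antisymm (hothers ht) fun r hr => ?_
    have hO : others Ps (vp A b L) ≤ A := (hothers ht).trans inf_le_left
    have hle : A ≤ vp A b L ⊔ others Ps (vp A b L) := hsup.symm.le.trans <| sSup_le fun Q hQ => by
      by_cases e : Q = vp A b L
      · exact e ▸ le_sup_left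
      · exact le_sup_of_le_right (le_sSup ⟨hQ, e⟩)
    obtain ⟨v, hv, o, ho, e⟩ := h.mem_sup_iff inf_le_left hO (hle hr.1)
    have hv1 : v ∈ vp A b L ⊓ qp A b L := ⟨hv, by
      rw [show v = r * o⁻¹ by rw [← e, mul_inv_cancel_right]]
      exact Subgroup.mul_mem _ hr (Subgroup.inv_mem _ (hothers ht ho))⟩
    rw [h.inf_eq ht.1 ht.2.1 ht.2.2.1, mem_bot] at hv1
    rwa [← e, hv1, one_mul]
  refine ⟨Ps, ?_, ⟨_, b₀, L₀, ht₀, rfl⟩, ?_, hsup, ?_, hconj, ?_, ?_⟩
  · intro P hP Q hQ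
    by_contra hc
    push Not at hc
    have hle : A ≤ P ⊔ Q := hsup.symm.le.trans <| sSup_le fun R hR => by
      by_cases e : R = P
      · exact e ▸ le_sup_left
      · exact (hc R hR e) ▸ le_sup_right
    have h1 := (card_le_of_le hle).trans (h.card_sup_le (hPA P hP) (hPA Q hQ))
    obtain ⟨b, L, ht, rfl⟩ := hP
    obtain ⟨c, L', ht', rfl⟩ := hQ
    rw [h.card_top ht₀ ht, h.card_top ht₀ ht', ← pow_two, ← hm] at h1
    omega
  · rintro _ ⟨b, L, ht, rfl⟩
    exact h.four_le ht.1 ht.2.1 ht.2.2.1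
  · rintro _ ⟨b, L, ht, rfl⟩
    rw [heq ht]
    exact h.inf_eq ht.1 ht.2.1 ht.2.2.1
  · intro b hb hb1 L hL
    by_contra hc
    push Not at hc
    have hall : ∀ {c : G} {L' : Subgroup (Bb c)}, Top A c L' → vp A b L ≤ qp A c L' := by
      intro c L' ht'
      obtain ⟨r, hr, hr', hr1⟩ := h.exists_common (B := qp A b L) (C := qp A c L') inf_le_left inf_le_left
        (by
          rw [← h.card_mul hb hb1 hL]
          refine Nat.mul_lt_mul_of_pos_left (lt_of_le_of_lt ?_ (hqp ht')) Nat.card_pos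
          exact hm ▸ ht₀.2.2.2 b hb hb1 L hL)
      obtain ⟨J', hJ', hV', hR'⟩ := h.top_at ht' hr' hr1
      obtain ⟨J, hJ, hV, hR, -⟩ := h.link G S A h.cfg b r (h.le_centralizer hb)
        (h.orderOf_eq hb hb1) (h.le_centralizer hr.1) (h.orderOf_eq hr.1 hr1) L hL hr.2
      by_cases e : J = J'
      · subst e
        exfalso
        exact hc _ ⟨c, L', ht', rfl⟩ (hV' ▸ hV) ((hothers ht').trans (hR' ▸ hR))
      · exact hV.trans (hR' ▸ h.vp_le_qp hJ'.1 hJ'.2.1 hJ'.2.2.1 hJ e)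
    set B : Subgroup G := A ⊓ ⨅ p : {p : Σ c : G, Subgroup (Bb c) // Top A p.1 p.2}, qp A p.1.1 p.1.2
      with hB
    have hmemB : ∀ {x : G}, x ∈ A → (∀ {c : G} {L' : Subgroup (Bb c)}, Top A c L' → x ∈ qp A c L') →
        x ∈ B := fun hxA hx => ⟨hxA, mem_iInf.2 fun p => hx p.2⟩
    have hBmem : ∀ {x : G}, x ∈ B → ∀ {c : G} {L' : Subgroup (Bb c)}, Top A c L' → x ∈ qp A c L' :=
      fun {x} hx {c L'} ht => mem_iInf.1 hx.2 ⟨⟨c, L'⟩, ht⟩
    rcases h.cfg.irred B inf_le_left (fun n hn => H39.mem_normalizer_of_conj_mem fun x hx =>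
      hmemB ((mem_normalizer_iff.1 hn x).1 hx.1) fun {c L'} ht => by
        obtain ⟨L'', ht'', -, hR''⟩ := h.top_conj ht (inv_mem hn)
        have := hBmem hx ht''
        rw [hR''] at this
        obtain ⟨y, hy, e⟩ := this
        have e' : n⁻¹ * y * n = x := by simpa using e
        rwa [← e', show n * (n⁻¹ * y * n) * n⁻¹ = y by group]) with e | e
    · exact h.vp_ne_bot hb hb1 hL (le_bot_iff.1 (e ▸ fun x hx =>
        hmemB hx.1 fun ht => hall ht hx))
    · exact h.qp_ne ht₀.1 ht₀.2.1 ht₀.2.2.1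
        (le_antisymm inf_le_left fun x hx => hBmem (e.symm ▸ hx) ht₀)
  · rintro _ ⟨b, L, ht, rfl⟩ r hr hr1
    rw [heq ht] at hr ⊢
    obtain ⟨J, hJ, hV, hR⟩ := h.top_at ht hr hr1
    exact ⟨J, hJ.2.2.1, hV, hR⟩

end Hyp

end Cfsg.Agent.H82.WA
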